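import Cfsg.Prelude.Def_Involutions
import Cfsg.Agent.MinSimple.Basic

/-!
# THEOREM SE (helper999, OMEGA #12471)

`G` finite, centralisers of involutions of characteristic 2, `S` a Sylow 2-subgroup, `z` a central
involution of `S`, `C_G(z) ≤ Y < G` and `z^G ∩ Y = z^Y`. Then `Y` is strongly embedded in `G`.

* `strong_of` : the abstract form (a "2-core" `R` for every involution `t`);
* `strong` : for groups of characteristic 2 type.
-/

set_option autoImplicit false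

namespace Cfsg.Agent.Omega.SE

open Subgroup Cfsg Cfsg.Agent.ZN Cfsg.Agent.MinSimple.MinParabolic Cfsg.Agent.MinSimple.VModule
open Cfsg.Agent.MinSimple.Basic
open scoped Pointwise

universe u

variable {G : Type u} [Group G]

/-- (1): commuting conjugates of `z` define the same conjugate of `Y`. -/
theorem mem_of_commute {z : G} {Y : Subgroup G} (hC : ∀ c : G, c * z = z * c → c ∈ Y)
    (hcl : ∀ g : G, g * z * g⁻¹ ∈ Y → ∃ y ∈ Y, g * z * g⁻¹ = y * z * y⁻¹) {g h : G}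
    (hc : (g * z * g⁻¹) * (h * z * h⁻¹) = (h * z * h⁻¹) * (g * z * g⁻¹)) : g⁻¹ * h ∈ Y := by
  have h1 : (g⁻¹ * h) * z * (g⁻¹ * h)⁻¹ ∈ Y := by
    apply hC
    have e1 : (g⁻¹ * h) * z * (g⁻¹ * h)⁻¹ * z =
        g⁻¹ * ((h * z * h⁻¹) * (g * z * g⁻¹)) * g := by group
    have e2 : z * ((g⁻¹ * h) * z * (g⁻¹ * h)⁻¹) =
        g⁻¹ * ((g * z * g⁻¹) * (h * z * h⁻¹)) * g := by group
    rw [e1, e2, hc]
  obtain ⟨y, hy, h2⟩ := hcl _ h1
  have h3 : y⁻¹ * (g⁻¹ * h) ∈ Y := by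
    apply hC
    have e1 : y⁻¹ * (g⁻¹ * h) * z = y⁻¹ * ((g⁻¹ * h) * z * (g⁻¹ * h)⁻¹) * (g⁻¹ * h) := by group
    rw [e1, h2]; group
  have h4 := Y.mul_mem hy h3
  rwa [mul_inv_cancel_left] at h4

variable [Finite G]

/-- A 2-subgroup lies in a conjugate of the Sylow 2-subgroup `S`. -/
theorem exists_conj_sylow (S : Sylow 2 G) {T : Subgroup G} (hT : IsPGroup 2 T) :
    ∃ h : G, ∀ x ∈ T, h⁻¹ * x * h ∈ (S : Subgroup G) := by
  have hf : Fact (Nat.Prime 2) := ⟨Nat.prime_two⟩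
  obtain ⟨P, hP⟩ := hT.exists_le_sylow
  obtain ⟨h, rfl⟩ := MulAction.exists_smul_eq G S P
  refine ⟨h, fun x hx => ?_⟩
  have h1 : x ∈ (h • S : Sylow 2 G) := hP hx
  rw [Sylow.smul_def] at h1
  have h2 : x ∈ MulAut.conj h • (S : Subgroup G) := h1
  rw [Subgroup.mem_pointwise_smul_iff_inv_smul_mem] at h2
  simpa [MulAut.smul_def, mul_assoc] using h2

/-- An element of 2-power order of `Y ≥ S` is conjugate in `Y` into `S`. -/
theorem exists_conj_mem (S : Sylow 2 G) {Y : Subgroup G} (hSY : (S : Subgroup G) ≤ Y) {t : G}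
    (ht : t ∈ Y) (ht2 : t ^ 2 = 1) : ∃ y ∈ Y, y⁻¹ * t * y ∈ (S : Subgroup G) := by
  have hf : Fact (Nat.Prime 2) := ⟨Nat.prime_two⟩
  obtain ⟨y, hy⟩ := exists_conj_sylow (G := Y) (S.subtype hSY)
    (T := zpowers (⟨t, ht⟩ : Y)) (isPGroup_zpowers (Subtype.ext (by simpa using ht2)))
  refine ⟨y, y.2, ?_⟩
  have h1 := hy _ (mem_zpowers _)
  rw [Sylow.coe_subtype, mem_subgroupOf] at h1
  simpa using h1

/-- The common part of (2) and (3). -/
theorem exists_rep (S : Sylow 2 G) {z : G} (hS : ∀ s ∈ (S : Subgroup G), s * z = z * s)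
    (hz : z ^ 2 = 1) {Y : Subgroup G} (hC : ∀ c : G, c * z = z * c → c ∈ Y)
    (hcl : ∀ g : G, g * z * g⁻¹ ∈ Y → ∃ y ∈ Y, g * z * g⁻¹ = y * z * y⁻¹)
    {t : G} (ht : t ^ 2 = 1) {R : Subgroup G} (hR : IsPGroup 2 R)
    (hRn : ∀ c : G, c * t = t * c → ∀ r ∈ R, c * r * c⁻¹ ∈ R) {g : G} (hg : g⁻¹ * t * g ∈ Y) :
    ∃ h : G, g⁻¹ * h ∈ Y ∧ ∀ r ∈ R, r * (h * z * h⁻¹) = (h * z * h⁻¹) * r := by
  have hf : Fact (Nat.Prime 2) := ⟨Nat.prime_two⟩
  have hSY : (S : Subgroup G) ≤ Y := fun s hs => hC s (hS s hs)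
  obtain ⟨y, hy, h1⟩ := exists_conj_mem S hSY hg (by
    have e : (g⁻¹ * t * g) ^ 2 = g⁻¹ * t ^ 2 * g := by simp only [sq]; group
    rw [e, ht]; group)
  -- `r' = (g y) z (g y)⁻¹` commutes with `t`
  have h2 := hS _ h1
  set r' : G := (g * y) * z * (g * y)⁻¹ with hr'
  have h3 : r' * t = t * r' := by
    have e1 : r' * t = (g * y) * (z * (y⁻¹ * (g⁻¹ * t * g) * y)) * (g * y)⁻¹ := by
      rw [hr']; group
    have e2 : t * r' = (g * y) * ((y⁻¹ * (g⁻¹ * t * g) * y) * z) * (g * y)⁻¹ := by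
      rw [hr']; group
    rw [e1, e2, h2]
  have hr2 : r' ^ 2 = 1 := by
    have e : r' ^ 2 = (g * y) * z ^ 2 * (g * y)⁻¹ := by rw [hr']; simp only [sq]; group
    rw [e, hz]; group
  have h4 : IsPGroup 2 ((R ⊔ zpowers r' : Subgroup G)) := by
    refine IsPGroup.to_sup_of_normal_left' hR (isPGroup_zpowers hr2) ?_
    rw [zpowers_le, mem_normalizer_iff]
    intro x
    refine ⟨fun hx => hRn r' h3 x hx, fun hx => ?_⟩
    have h5 := hRn r'⁻¹ (by
      have : Commute r' t := h3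
      exact this.inv_left.eq) _ hx
    have e : r'⁻¹ * (r' * x * r'⁻¹) * (r'⁻¹)⁻¹ = x := by group
    rwa [e] at h5
  obtain ⟨h, hh⟩ := exists_conj_sylow S h4
  -- `h z h⁻¹` centralises `R ⊔ ⟨r'⟩`
  have h5 : ∀ x ∈ (R ⊔ zpowers r' : Subgroup G), x * (h * z * h⁻¹) = (h * z * h⁻¹) * x := by
    intro x hx
    have h6 := hS _ (hh x hx)
    have e1 : x * (h * z * h⁻¹) = h * ((h⁻¹ * x * h) * z) * h⁻¹ := by group
    have e2 : (h * z * h⁻¹) * x = h * (z * (h⁻¹ * x * h)) * h⁻¹ := by group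
    rw [e1, e2, h6]
  refine ⟨h, ?_, fun r hr => h5 r (mem_sup_left hr)⟩
  have h6 := mem_of_commute hC hcl (g := g * y) (h := h) (h5 r' (mem_sup_right (mem_zpowers r')))
  have h7 := Y.mul_mem hy h6
  have e : y * ((g * y)⁻¹ * h) = g⁻¹ * h := by group
  rwa [e] at h7

/-- **THEOREM SE**, abstract form. -/
theorem strong_of (S : Sylow 2 G) {z : G} (hS : ∀ s ∈ (S : Subgroup G), s * z = z * s)
    (hz : z ^ 2 = 1) (hz1 : z ≠ 1) {Y : Subgroup G} (hY : Y ≠ ⊤)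
    (hC : ∀ c : G, c * z = z * c → c ∈ Y)
    (hcl : ∀ g : G, g * z * g⁻¹ ∈ Y → ∃ y ∈ Y, g * z * g⁻¹ = y * z * y⁻¹)
    (hR : ∀ t : G, t ^ 2 = 1 → t ≠ 1 → ∃ R : Subgroup G, IsPGroup 2 R ∧ t ∈ R ∧
      (∀ c : G, c * t = t * c → ∀ r ∈ R, c * r * c⁻¹ ∈ R) ∧
      ∀ c : G, c * t = t * c → (∀ r ∈ R, r * c = c * r) → c ∈ R) :
    IsStronglyEmbedded Y := by
  have hzY : z ∈ Y := hC z rfl
  refine ⟨hY, ?_, fun g hg => ?_⟩
  · have h1 : orderOf (⟨z, hzY⟩ : Y) = 2 := by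
      rw [orderOf_mk]
      exact orderOf_eq_prime hz hz1
    have h2 := orderOf_dvd_natCard (⟨z, hzY⟩ : Y)
    rw [h1] at h2
    exact even_iff_two_dvd.mpr h2
  · rw [← Nat.not_even_iff_odd, even_iff_two_dvd]
    intro h2
    have hf : Fact (Nat.Prime 2) := ⟨Nat.prime_two⟩
    obtain ⟨⟨t, ht⟩, ht2⟩ := exists_prime_orderOf_dvd_card' 2 h2
    rw [orderOf_mk] at ht2
    have ht1 : t ≠ 1 := by
      rintro rfl
      rw [orderOf_one] at ht2
      exact absurd ht2 (by norm_num)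
    have ht3 : t ^ 2 = 1 := ht2 ▸ pow_orderOf_eq_one t
    obtain ⟨hY1, hY2⟩ := ht
    have hY3 : g⁻¹ * t * g ∈ Y := by
      obtain ⟨x, hx, hxt⟩ := hY2
      have e : g⁻¹ * t * g = x := by
        rw [← hxt]
        simp [MulAut.conj_apply, mul_assoc]
      rw [e]
      exact hx
    obtain ⟨R, hR1, hR2, hR3, hR4⟩ := hR t ht3 ht1
    obtain ⟨h₁, h3, h4⟩ := exists_rep S hS hz hC hcl ht3 hR1 hR3 (g := 1) (by simpa using hY1)
    obtain ⟨h₂, h5, h6⟩ := exists_rep S hS hz hC hcl ht3 hR1 hR3 (g := g) hY3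
    have h7 : h₁ * z * h₁⁻¹ ∈ R := hR4 _ (h4 t hR2).symm h4
    have h8 := mem_of_commute hC hcl (g := h₁) (h := h₂) (h6 _ h7)
    rw [inv_one, one_mul] at h3
    have h9 := Y.mul_mem (Y.mul_mem h3 h8) (Y.inv_mem h5)
    have e : h₁ * (h₁⁻¹ * h₂) * (g⁻¹ * h₂)⁻¹ = g := by group
    rw [e] at h9
    exact hg h9

/-- **THEOREM SE** (helper999): `G` of characteristic 2 type, `z` a central involution of a Sylow
2-subgroup `S`, `C_G(z) ≤ Y < G` and `z^G ∩ Y = z^Y`. Then `Y` is strongly embedded. -/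
theorem strong (hG : IsCharacteristicTwoType G) (S : Sylow 2 G) {z : G}
    (hS : (S : Subgroup G) ≤ centralizer ({z} : Set G)) (hz : z ^ 2 = 1) (hz1 : z ≠ 1)
    {Y : Subgroup G} (hY : Y ≠ ⊤) (hC : centralizer ({z} : Set G) ≤ Y)
    (hcl : ∀ g : G, g * z * g⁻¹ ∈ Y → ∃ y ∈ Y, g * z * g⁻¹ = y * z * y⁻¹) :
    IsStronglyEmbedded Y := by
  refine strong_of S (fun s hs => mem_centralizer_singleton_iff.mp (hS hs)) hz hz1 hY
    (fun c hc => hC (mem_centralizer_singleton_iff.mpr hc)) hcl fun t ht ht1 => ?_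
  have h1 := char2_centralizer hG ht ht1
  refine ⟨o2 (centralizer ({t} : Set G)), o2_isPGroup _, ?_, fun c hc r hr => ?_,
    fun c hc hcr => ?_⟩
  · have h2 : zpowers t ≤ o2 (centralizer ({t} : Set G)) := by
      refine le_o2 ?_ (isPGroup_zpowers ht) ?_
      · rw [zpowers_le, mem_centralizer_singleton_iff]
      · rw [normalizer_zpowers_eq ht]
    exact h2 (mem_zpowers t)
  · have h2 := le_normalizer_o2 (centralizer ({t} : Set G))
      (mem_centralizer_singleton_iff.mpr hc)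
    exact (mem_normalizer_iff.mp h2 r).mp hr
  · exact h1 ⟨mem_centralizer_singleton_iff.mpr hc, mem_centralizer_iff.mpr fun r hr => hcr r hr⟩

end Cfsg.Agent.Omega.SE
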