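import Cfsg.Agent.Omega.Tools.SE
import Cfsg.Agent.StrongEmb.Split

/-!
# THEOREM SE and Bender's theorem

`le_normalizer_of_split` : a strongly embedded subgroup `Y ≥ S` of a simple group, with the normal
subgroup of Bender's theorem (`StrongEmb.Strong.exists_isSplit` gives it), normalises `S`.
`eq_top_of_split` : in the situation of THEOREM SE, `Y = G` if `Y` does not normalise `S`
(`hB` = `fun H hH => StrongEmb.Strong.exists_isSplit hna H hH`).
-/

set_option autoImplicit false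

namespace Cfsg.Agent.Omega.SE

open Subgroup Cfsg Cfsg.Agent.StrongEmb.Split Cfsg.Agent.StrongEmb.TwoRank

universe u

variable {G : Type u} [Group G] [Finite G] [IsSimpleGroup G]

theorem le_normalizer_of_split (hna : ∃ a b : G, a * b ≠ b * a) (S : Sylow 2 G) {Y : Subgroup G}
    (hSY : (S : Subgroup G) ≤ Y) (hY : IsStronglyEmbedded Y) (hr : CommPair G)
    (hB : ∃ Q : Subgroup G, IsSplit Y Q) : Y ≤ normalizer ((S : Subgroup G) : Set G) := by
  have hf : Fact (Nat.Prime 2) := ⟨Nat.prime_two⟩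
  obtain ⟨Q, hQ⟩ := hB
  obtain ⟨h1, h2⟩ := isPGroup_of_isSplit hY hQ hr
  have h3 : (S : Subgroup G) ≤ Q := by
    intro s hs
    obtain ⟨n, hn⟩ := IsPGroup.iff_orderOf.mp S.isPGroup' ⟨s, hs⟩
    exact h2 s (hSY hs) ⟨n, by rwa [Subgroup.orderOf_mk] at hn⟩
  have h4 : Q = (S : Subgroup G) := S.is_maximal' h1 h3
  intro y hy
  rw [mem_normalizer_iff]
  intro x
  rw [← h4]
  refine ⟨fun hx => hQ.conj_mem hy hx, fun hx => ?_⟩
  have h5 := hQ.conj_mem (Y.inv_mem hy) hx
  have e : y⁻¹ * (y * x * y⁻¹) * (y⁻¹)⁻¹ = x := by group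
  rwa [e] at h5

/-- **THEOREM SE with Bender**: `Y = G` if `Y` does not normalise `S`. -/
theorem eq_top_of_split (hna : ∃ a b : G, a * b ≠ b * a) (hG : IsCharacteristicTwoType G)
    (S : Sylow 2 G) {z : G} (hS : (S : Subgroup G) ≤ centralizer ({z} : Set G)) (hz : z ^ 2 = 1)
    (hz1 : z ≠ 1) {Y : Subgroup G} (hC : centralizer ({z} : Set G) ≤ Y)
    (hcl : ∀ g : G, g * z * g⁻¹ ∈ Y → ∃ y ∈ Y, g * z * g⁻¹ = y * z * y⁻¹)
    (hr : CommPair G) (hB : ∀ H : Subgroup G, IsStronglyEmbedded H → ∃ Q : Subgroup G, IsSplit H Q)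
    (hn : ¬ Y ≤ normalizer ((S : Subgroup G) : Set G)) : Y = ⊤ := by
  by_contra hY
  have h1 := strong hG S hS hz hz1 hY hC hcl
  exact hn (le_normalizer_of_split hna S (hS.trans hC) h1 hr (hB Y h1))

end Cfsg.Agent.Omega.SE
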