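import Mathlib

/-!
# Fixed points of a Sylow 2-subgroup: THEOREM ODD (bb OMEGA #20098, helper967)

`odd_fix`: a 2-group `T` normalises `K`, `T ∩ K` is a Sylow 2-subgroup of `K` (odd index), `K` centralises `C_W(T)`.
Then `C_W(T ∩ K) = C_W(K)`. Module form and form for an elementary abelian subgroup of a group.
-/

set_option autoImplicit false
set_option linter.style.haveILetI false

namespace Cfsg.Agent.Omega.Tools.OddFix

open Subgroup

variable {G : Type*} [Group G] {W : Type*} [AddCommGroup W] [DistribMulAction G W]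

/-- the sum of a `K`-orbit -/
theorem smul_orbit_sum [Finite W] (K : Subgroup G) (w : W) [Fintype (MulAction.orbit K w)] (k : G) (hk : k ∈ K) :
    k • (∑ x : MulAction.orbit K w, (x : W)) = ∑ x : MulAction.orbit K w, (x : W) := by
  rw [Finset.smul_sum]
  exact Fintype.sum_equiv (MulAction.toPerm (⟨k, hk⟩ : K)) _ _ (fun x => rfl)

/-- **THEOREM ODD**, one vector: `T ∩ K` fixes `w`, and `[w, T] ≤ C_W(K)`. Then `K` fixes `w`, if `K` centralises `C_W(T)`. -/
theorem odd_step [Finite W] (h2 : ∀ w : W, w + w = 0) {T K : Subgroup G} (hn : ∀ t ∈ T, ∀ k ∈ K, t * k * t⁻¹ ∈ K)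
    (hodd : ¬ 2 ∣ (T ⊓ K).relIndex K) (hfix : ∀ w : W, (∀ t ∈ T, t • w = w) → ∀ k ∈ K, k • w = w) {w : W}
    (hw : ∀ t ∈ T ⊓ K, t • w = w) (hc : ∀ t ∈ T, ∀ k ∈ K, k • (t • w + w) = t • w + w) : ∀ k ∈ K, k • w = w := by
  classical
  haveI : Fintype (MulAction.orbit K w) := Fintype.ofFinite _
  -- the orbit has odd length
  have hcard : ¬ 2 ∣ Fintype.card (MulAction.orbit K w) := by
    intro h
    apply hodd
    have e : Fintype.card (MulAction.orbit K w) = (MulAction.stabilizer K w).index := by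
      rw [← Nat.card_eq_fintype_card]
      exact Nat.card_congr (MulAction.orbitEquivQuotientStabilizer K w)
    have hle : (T ⊓ K).subgroupOf K ≤ MulAction.stabilizer K w := by
      intro x hx
      rw [MulAction.mem_stabilizer_iff]
      exact hw _ (mem_subgroupOf.mp hx)
    rw [e] at h
    exact h.trans (index_dvd_of_le hle)
  obtain ⟨s, hs⟩ : ∃ s : W, s = ∑ x : MulAction.orbit K w, (x : W) := ⟨_, rfl⟩
  have hKs : ∀ k ∈ K, k • s = s := fun k hk => by rw [hs]; exact smul_orbit_sum K w k hk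
  -- `odd • c = c`
  have hoddc : ∀ c : W, Fintype.card (MulAction.orbit K w) • c = c := by
    intro c
    obtain ⟨m, hm⟩ := Nat.not_even_iff_odd.mp (fun h => hcard (even_iff_two_dvd.mp h))
    rw [hm, add_smul, mul_comm, mul_smul, two_smul, h2, smul_zero, zero_add, one_smul]
  have key : ∀ t ∈ T, t • s = s + (t • w + w) := by
    intro t ht
    obtain ⟨c, hcd⟩ : ∃ c, c = t • w + w := ⟨_, rfl⟩
    have htw : t • w = w + c := by
      rw [hcd, add_comm (t • w) w, ← add_assoc, h2, zero_add]
    have hKc : ∀ k ∈ K, k • c = c := fun k hk => by rw [hcd]; exact hc t ht k hk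
    rw [← hcd, hs, Finset.smul_sum]
    -- the permutation `x ↦ t • x - c` of the orbit
    have hmem : ∀ g : G, (∀ k ∈ K, g * k * g⁻¹ ∈ K) → ∀ d : W, g • w = w + d → (∀ k ∈ K, k • d = d) →
        ∀ x ∈ MulAction.orbit K w, g • x + d ∈ MulAction.orbit K w := by
      rintro g hg d hd hKd _ ⟨k, rfl⟩
      refine ⟨⟨g * k * g⁻¹, hg k k.2⟩, ?_⟩
      change (g * k * g⁻¹) • w = g • ((k : G) • w) + d
      have e1 : g⁻¹ • d = g⁻¹ • w + w := by
        have : g⁻¹ • (g • w) = g⁻¹ • w + g⁻¹ • d := by rw [hd, smul_add]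
        rw [inv_smul_smul] at this
        calc g⁻¹ • d = (g⁻¹ • w + g⁻¹ • w) + g⁻¹ • d := by rw [h2, zero_add]
          _ = g⁻¹ • w + w := by rw [add_assoc, ← this]
      have e2 : g⁻¹ • w = w + g⁻¹ • d := by
        rw [e1, add_comm (g⁻¹ • w) w, ← add_assoc, h2, zero_add]
      have e3 : (k : G) • (g⁻¹ • d) = g⁻¹ • d := by
        have h5 := hKd (g * k * g⁻¹) (hg k k.2)
        have h6 := congrArg (fun z => g⁻¹ • z) h5
        simp only [mul_smul, inv_smul_smul] at h6
        exact h6
      rw [mul_smul, mul_smul, e2, smul_add, smul_add, e3, smul_inv_smul]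
    have e : ∑ x : MulAction.orbit K w, (t • (x : W) + c) = ∑ x : MulAction.orbit K w, (x : W) := by
      have hinj : Function.Injective (fun x : MulAction.orbit K w =>
          (⟨t • (x : W) + c, hmem t (hn t ht) c htw hKc x x.2⟩ : MulAction.orbit K w)) := by
        intro x x' h
        have h1 : t • (x : W) + c = t • (x' : W) + c := congrArg Subtype.val h
        exact Subtype.ext (MulAction.injective t (add_right_cancel h1))
      have hbij := Finite.injective_iff_bijective.mp hinj
      exact Fintype.sum_bijective _ hbij _ _ (fun x => rfl)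
    rw [Finset.sum_add_distrib, Finset.sum_const, Finset.card_univ, hoddc] at e
    calc ∑ x : MulAction.orbit K w, t • (x : W) = (∑ x : MulAction.orbit K w, t • (x : W)) + (c + c) := by
          rw [h2, add_zero]
      _ = (∑ x : MulAction.orbit K w, (x : W)) + c := by rw [← add_assoc, e]
  -- `w + s` is fixed by `T`
  have hws : ∀ t ∈ T, t • (w + s) = w + s := by
    intro t ht
    rw [smul_add, key t ht]
    calc t • w + (s + (t • w + w)) = (t • w + t • w) + (w + s) := by abel
      _ = w + s := by rw [h2, zero_add]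
  intro k hk
  have h1 := hfix _ hws k hk
  rw [smul_add, hKs k hk] at h1
  exact add_right_cancel h1

/-- **THEOREM ODD.** `C_W(T ∩ K) = C_W(K)`. -/
theorem odd_fix [Finite W] (h2 : ∀ w : W, w + w = 0) {T K : Subgroup G} (hT : IsPGroup 2 T)
    (hn : ∀ t ∈ T, ∀ k ∈ K, t * k * t⁻¹ ∈ K) (hodd : ¬ 2 ∣ (T ⊓ K).relIndex K)
    (hfix : ∀ w : W, (∀ t ∈ T, t • w = w) → ∀ k ∈ K, k • w = w) :
    ∀ w : W, (∀ t ∈ T ⊓ K, t • w = w) → ∀ k ∈ K, k • w = w := by
  classical
  -- the two submodules
  let C : AddSubgroup W :=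
    { carrier := {w | ∀ k ∈ K, k • w = w}
      zero_mem' := fun k _ => smul_zero k
      add_mem' := fun {a b} ha hb k hk => by rw [smul_add, ha k hk, hb k hk]
      neg_mem' := fun {a} ha k hk => by rw [smul_neg, ha k hk] }
  let D : AddSubgroup W :=
    { carrier := {w | ∀ t ∈ T ⊓ K, t • w = w}
      zero_mem' := fun k _ => smul_zero k
      add_mem' := fun {a b} ha hb k hk => by rw [smul_add, ha k hk, hb k hk]
      neg_mem' := fun {a} ha k hk => by rw [smul_neg, ha k hk] }
  have hinv : ∀ t ∈ T, ∀ k ∈ K, t⁻¹ * k * t ∈ K := by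
    intro t ht k hk
    have := hn t⁻¹ (T.inv_mem ht) k hk
    rwa [inv_inv] at this
  have hCT : ∀ t ∈ T, ∀ w ∈ C, t • w ∈ C := by
    intro t ht w hw k hk
    have h1 := hw _ (hinv t ht k hk)
    have h2' := congrArg (fun z => t • z) h1
    simp only [mul_smul, smul_inv_smul] at h2'
    exact h2'
  have hDT : ∀ t ∈ T, ∀ w ∈ D, t • w ∈ D := by
    intro t ht w hw k hk
    have hm : t⁻¹ * k * t ∈ T ⊓ K := ⟨T.mul_mem (T.mul_mem (T.inv_mem ht) hk.1) ht, hinv t ht k hk.2⟩
    have h1 := hw _ hm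
    have h2' := congrArg (fun z => t • z) h1
    simp only [mul_smul, smul_inv_smul] at h2'
    exact h2'
  by_contra hcon
  push Not at hcon
  obtain ⟨w0, hw0, k0, hk0, hne⟩ := hcon
  -- `T` acts on `(D + C) / C`, a nontrivial 2-group
  have hCD : C ≤ D := fun w hw t ht => hw t ht.2
  -- the submodule `D` as a type, `C` inside
  let CD : AddSubgroup D := C.addSubgroupOf D
  letI : MulAction T (D ⧸ CD) :=
    { smul := fun t q => QuotientAddGroup.map CD CD
        { toFun := fun w => ⟨(t : G) • (w : W), hDT t t.2 w w.2⟩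
          map_zero' := Subtype.ext (smul_zero _)
          map_add' := fun a b => Subtype.ext (smul_add _ _ _) }
        (fun w hw => hCT t t.2 w hw) q
      one_smul := by
        intro q
        obtain ⟨w, rfl⟩ := QuotientAddGroup.mk_surjective q
        change ((⟨(1 : G) • (w : W), _⟩ : D) : D ⧸ CD) = w
        congr 1
        exact Subtype.ext (one_smul _ _)
      mul_smul := by
        intro t t' q
        obtain ⟨w, rfl⟩ := QuotientAddGroup.mk_surjective q
        change ((⟨((t : G) * t') • (w : W), _⟩ : D) : D ⧸ CD) = ((⟨(t : G) • ((t' : G) • (w : W)), _⟩ : D) : D ⧸ CD)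
        congr 1
        exact Subtype.ext (mul_smul _ _ _) }
  have hsmul : ∀ (t : T) (w : D), t • (w : D ⧸ CD) = ((⟨(t : G) • (w : W), hDT t t.2 w w.2⟩ : D) : D ⧸ CD) :=
    fun t w => rfl
  have hq0 : ((⟨w0, hw0⟩ : D) : D ⧸ CD) ≠ 0 := by
    intro h
    have h1 : (⟨w0, hw0⟩ : D) ∈ CD := (QuotientAddGroup.eq_zero_iff _).mp h
    exact hne (h1 k0 hk0)
  have hcardq : 2 ∣ Nat.card (D ⧸ CD) := by
    -- every element has order dividing 2
    have ho : addOrderOf (((⟨w0, hw0⟩ : D) : D ⧸ CD)) = 2 := by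
      have h3 : Fact (Nat.Prime 2) := ⟨Nat.prime_two⟩
      apply addOrderOf_eq_prime _ hq0
      rw [two_smul, ← QuotientAddGroup.mk_add]
      rw [QuotientAddGroup.eq_zero_iff]
      have : (⟨w0, hw0⟩ : D) + ⟨w0, hw0⟩ = 0 := Subtype.ext (h2 w0)
      rw [this]
      exact CD.zero_mem
    rw [← ho]
    exact addOrderOf_dvd_natCard _
  haveI : Fact (Nat.Prime 2) := ⟨Nat.prime_two⟩
  have hz : (0 : D ⧸ CD) ∈ MulAction.fixedPoints T (D ⧸ CD) := by
    intro t
    have h1 := hsmul t 0
    rw [QuotientAddGroup.mk_zero] at h1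
    rw [h1]
    have : (⟨(t : G) • ((0 : D) : W), hDT t t.2 _ (0 : D).2⟩ : D) = 0 := Subtype.ext (smul_zero _)
    rw [this, QuotientAddGroup.mk_zero]
  obtain ⟨q, hq, hq1⟩ := hT.exists_fixed_point_of_prime_dvd_card_of_fixed_point (D ⧸ CD) hcardq hz
  obtain ⟨w, rfl⟩ := QuotientAddGroup.mk_surjective q
  have hwD := w.2
  have hmem : ∀ t ∈ T, t • (w : W) + w ∈ C := by
    intro t ht
    have h1 := hq ⟨t, ht⟩
    rw [hsmul] at h1
    have h3 := (QuotientAddGroup.eq.mp h1 : -(⟨t • (w : W), hDT t ht w w.2⟩ : D) + w ∈ CD)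
    have h4 : -(t • (w : W)) + (w : W) ∈ C := h3
    have h5 : -(t • (w : W)) = t • (w : W) := neg_eq_of_add_eq_zero_left (h2 _)
    rwa [h5] at h4
  have h6 := odd_step h2 hn hodd hfix (w := (w : W)) hwD (fun t ht => hmem t ht)
  apply hq1
  have h7 : w ∈ CD := h6
  exact ((QuotientAddGroup.eq_zero_iff w).mpr h7).symm

theorem comap_inf' {G : Type*} [Group G] (T K N : Subgroup G) :
    (T ⊓ K).subgroupOf N = T.subgroupOf N ⊓ K.subgroupOf N := by
  ext x
  simp [mem_subgroupOf]

/-- **THEOREM ODD**, group form: `W` is an elementary abelian subgroup normalised by `T` and `K`. -/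
theorem odd_fix_conj {G : Type*} [Group G] [Finite G] {W T K : Subgroup G} (hab : ∀ a ∈ W, ∀ b ∈ W, a * b = b * a)
    (hsq : ∀ a ∈ W, a * a = 1) (hTW : T ≤ normalizer (W : Set G)) (hKW : K ≤ normalizer (W : Set G)) (hT : IsPGroup 2 T)
    (hn : ∀ t ∈ T, ∀ k ∈ K, t * k * t⁻¹ ∈ K) (hodd : ¬ 2 ∣ (T ⊓ K).relIndex K)
    (hfix : ∀ w ∈ W, (∀ t ∈ T, t * w = w * t) → ∀ k ∈ K, k * w = w * k) :
    ∀ w ∈ W, (∀ t ∈ T ⊓ K, t * w = w * t) → ∀ k ∈ K, k * w = w * k := by
  letI : CommGroup W := { (inferInstance : Group W) with mul_comm := fun a b => Subtype.ext (hab a a.2 b b.2) }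
  letI : DistribMulAction (normalizer (W : Set G)) (Additive W) :=
    { smul := fun g w => Additive.ofMul ⟨(g : G) * (w.toMul : W) * (g : G)⁻¹, (mem_normalizer_iff.mp g.2 _).mp w.toMul.2⟩
      one_smul := fun w => by
        apply Additive.toMul.injective
        apply Subtype.ext
        change (1 : G) * (w.toMul : W) * (1 : G)⁻¹ = _
        rw [one_mul, inv_one, mul_one]
      mul_smul := fun g h w => by
        apply Additive.toMul.injective
        apply Subtype.ext
        change ((g : G) * h) * (w.toMul : W) * ((g : G) * h)⁻¹ = g * (h * (w.toMul : W) * (h : G)⁻¹) * (g : G)⁻¹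
        group
      smul_zero := fun g => by
        apply Additive.toMul.injective
        apply Subtype.ext
        change (g : G) * 1 * (g : G)⁻¹ = 1
        group
      smul_add := fun g a b => by
        apply Additive.toMul.injective
        apply Subtype.ext
        change (g : G) * ((a.toMul : G) * (b.toMul : G)) * (g : G)⁻¹ =
          ((g : G) * (a.toMul : G) * (g : G)⁻¹) * ((g : G) * (b.toMul : G) * (g : G)⁻¹)
        group }
  have hsm : ∀ (g : normalizer (W : Set G)) (w : W),
      g • Additive.ofMul w = Additive.ofMul w ↔ (g : G) * w = w * g := by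
    intro g w
    constructor
    · intro h
      have h1 : (g : G) * w * (g : G)⁻¹ = w := congrArg (fun z => ((Additive.toMul z : W) : G)) h
      exact mul_inv_eq_iff_eq_mul.mp h1
    · intro h
      apply Additive.toMul.injective
      apply Subtype.ext
      change (g : G) * w * (g : G)⁻¹ = w
      rw [h, mul_inv_cancel_right]
  have hrel : ((T.subgroupOf (normalizer (W : Set G))) ⊓ (K.subgroupOf (normalizer (W : Set G)))).relIndex
      (K.subgroupOf (normalizer (W : Set G))) = (T ⊓ K).relIndex K := by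
    rw [← comap_inf' T K (normalizer (W : Set G))]
    exact relIndex_subgroupOf hKW
  have h := odd_fix (G := normalizer (W : Set G)) (W := Additive W) (T := T.subgroupOf _) (K := K.subgroupOf _)
    (fun w => by
      apply Additive.toMul.injective
      exact Subtype.ext (hsq w.toMul w.toMul.2))
    (hT.comap_of_injective _ (Subgroup.subtype_injective _))
    (fun t ht k hk => hn t ht k hk) (by rw [hrel]; exact hodd)
    (fun w hw k hk => by
      have h1 := hfix w.toMul w.toMul.2 (fun t ht => (hsm ⟨t, hTW ht⟩ w.toMul).mp (hw ⟨t, hTW ht⟩ ht)) k hk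
      exact (hsm k w.toMul).mpr h1)
  intro w hw ht k hk
  exact (hsm ⟨k, hKW hk⟩ ⟨w, hw⟩).mp (h (Additive.ofMul ⟨w, hw⟩)
    (fun t ht' => (hsm t ⟨w, hw⟩).mpr (ht t ht')) ⟨k, hKW hk⟩ hk)

end Cfsg.Agent.Omega.Tools.OddFix
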