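import Cfsg.Agent.Omega.NOThree.NoOver
import Cfsg.Agent.SmallSimple.SylowMaxInter

/-!
# THEOREM SC (OMEGA, #21116 of helper899): exact quadratic groups are self-centralising; K-free

`H` acts on the finite elementary abelian 2-group `M`, `O` is a 2-subgroup of `H`, `fo M A = |A| |C_M(A)|`.

* `NOel M O` : `|E| |C_M(E)| ≤ |M|` for all elementary abelian `E ≤ O`;
* `Exact M A` : `A` is elementary abelian, quadratic on `M` and `|A| |C_M(A)| = |M|`;
* `Exact.self_central` : **THEOREM SC** if `NOel M O` and `A ≤ O` is `Exact`, then every element of `O` centralising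
  `C_M(A)` is in `A`;
* `Exact.le_of_cv_le` : `A` `Exact`, `B ≤ O`, `C_M(A) ≤ C_M(B)` imply `B ≤ A`;
* `Exact.eq_of_cv_eq`, `Exact.normalizes`.
-/

set_option autoImplicit false

namespace Cfsg.Agent.Omega.Tools.ExactSC

open Subgroup Cfsg.Agent.ClassTwoFusion.Quad Cfsg.Agent.Omega.NOThree.NoOver
open scoped Pointwise

variable {H : Type*} [Group H] {M : Type*} [Group M] [MulDistribMulAction H M]

variable (M) in
/-- no over-offenders among the elementary abelian subgroups of `O` -/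
def NOel (O : Subgroup H) : Prop := ∀ E ≤ O, (∀ a ∈ E, a * a = 1) → fo M E ≤ Nat.card M

variable (M) in
/-- elementary abelian, quadratic, `|A| |C_M(A)| = |M|` -/
structure Exact (A : Subgroup H) : Prop where
  sq : ∀ a ∈ A, a * a = 1
  quad : ∀ a ∈ A, ∀ b ∈ A, ∀ m : M, b • d a m = d a m
  eq : fo M A = Nat.card M

/-- groups of exponent two are commutative -/
theorem comm_of_sq {G : Type*} [Group G] {A : Subgroup G} (h : ∀ a ∈ A, a * a = 1) {a b : G} (ha : a ∈ A) (hb : b ∈ A) :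
    a * b = b * a := by
  have h1 := h _ (mul_mem ha hb)
  have h2 := h a ha
  have h3 := h b hb
  calc a * b = a * b * ((b * a) * (b * a)) := by rw [h _ (mul_mem hb ha), mul_one]
    _ = a * (b * b) * a * (b * a) := by group
    _ = b * a := by rw [h3, mul_one, h2, one_mul]

section Elem

variable (h2 : ∀ v : M, v * v = 1)
include h2

theorem vcomm (v w : M) : v * w = w * v :=
  comm_of_sq (A := (⊤ : Subgroup M)) (fun a _ => h2 a) (mem_top v) (mem_top w)

theorem vinv (v : M) : v⁻¹ = v := inv_eq_of_mul_eq_one_right (h2 v)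

theorem vsmul (x : H) (v : M) : x • v = d x v * v := by
  unfold d
  rw [mul_assoc, h2, mul_one]

theorem vd_one_iff (x : H) (v : M) : d x v = 1 ↔ x • v = v := by
  unfold d
  rw [mul_eq_one_iff_eq_inv, vinv h2]

theorem vd_mul (x : H) (v w : M) : d x (v * w) = d x v * d x w := by
  letI : CommGroup M := { ‹Group M› with mul_comm := vcomm h2 }
  unfold d
  rw [smul_mul']
  exact mul_mul_mul_comm _ _ _ _

theorem vd_smul (x a : H) (v : M) : x • d a v = d (x * a * x⁻¹) (x • v) := by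
  unfold d
  rw [smul_mul', ← mul_smul, ← mul_smul]
  congr 2
  group

end Elem

/-- `m ↦ [m, x]` -/
def dh (h2 : ∀ v : M, v * v = 1) (x : H) : M →* M where
  toFun := d x
  map_one' := by unfold d; rw [smul_one, mul_one]
  map_mul' := vd_mul h2 x

@[simp] theorem dh_apply (h2 : ∀ v : M, v * v = 1) (x : H) (m : M) : dh h2 x m = d x m := rfl

/-- The situation of the proof: `x` normalises `A`, centralises `C_M(A)`, `x² ∈ A`. -/
structure Sit (M : Type*) [Group M] [MulDistribMulAction H M] (A : Subgroup H) (x : H) : Prop where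
  norm : ∀ a ∈ A, x * a * x⁻¹ ∈ A
  cent : ∀ m ∈ cv M (A : Set H), x • m = m
  sqm : x * x ∈ A
  no : ∀ E ≤ A, fo M E ≤ Nat.card M

namespace Sit

variable {A : Subgroup H} {x : H} (h2 : ∀ v : M, v * v = 1) (hA : Exact M A) (h : Sit M A x)

/-- `a ↦ a a^x` on `A` -/
def tw (hA : Exact M A) (h : Sit M A x) : A →* A where
  toFun a := ⟨a * (x * a * x⁻¹), mul_mem a.2 (h.norm _ a.2)⟩
  map_one' := by ext; simp
  map_mul' := by
    intro a b
    ext
    have h1 : (b : H) * (x * a * x⁻¹) = (x * a * x⁻¹) * b := comm_of_sq hA.sq b.2 (h.norm _ a.2)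
    change (a : H) * b * (x * (a * b) * x⁻¹) = (a * (x * a * x⁻¹)) * (b * (x * b * x⁻¹))
    calc (a : H) * b * (x * (a * b) * x⁻¹) = a * (b * (x * a * x⁻¹)) * (x * b * x⁻¹) := by group
      _ = a * ((x * a * x⁻¹) * b) * (x * b * x⁻¹) := by rw [h1]
      _ = _ := by group

/-- `D = [A, x]` -/
def D (hA : Exact M A) (h : Sit M A x) : Subgroup H := (tw hA h).range.map A.subtype

/-- `A_x = C_A(x)` -/
def Ax (hA : Exact M A) (h : Sit M A x) : Subgroup H := (tw hA h).ker.map A.subtype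

theorem mem_D {e : H} : e ∈ D hA h ↔ ∃ a ∈ A, a * (x * a * x⁻¹) = e := by
  constructor
  · rintro ⟨_, ⟨a, rfl⟩, rfl⟩
    exact ⟨a, a.2, rfl⟩
  · rintro ⟨a, ha, rfl⟩
    exact ⟨_, ⟨⟨a, ha⟩, rfl⟩, rfl⟩

theorem mem_Ax {a : H} : a ∈ Ax hA h ↔ a ∈ A ∧ x * a * x⁻¹ = a := by
  constructor
  · rintro ⟨b, hb, rfl⟩
    refine ⟨b.2, ?_⟩
    have h1 : (b : H) * (x * b * x⁻¹) = 1 := congrArg Subtype.val (MonoidHom.mem_ker.1 hb)
    have h3 : (b : H)⁻¹ = b := inv_eq_of_mul_eq_one_right (hA.sq _ b.2)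
    change x * (b : H) * x⁻¹ = b
    rw [← inv_eq_of_mul_eq_one_right h1, h3]
  · rintro ⟨ha, h1⟩
    refine ⟨⟨a, ha⟩, ?_, rfl⟩
    rw [SetLike.mem_coe, MonoidHom.mem_ker]
    ext
    change a * (x * a * x⁻¹) = 1
    rw [h1, hA.sq a ha]

theorem D_le : D hA h ≤ A := by
  rintro _ ⟨b, _, rfl⟩
  exact b.2

theorem Ax_le : Ax hA h ≤ A := by
  rintro _ ⟨b, _, rfl⟩
  exact b.2

theorem card_D_Ax [Finite H] : Nat.card (D hA h) * Nat.card (Ax hA h) = Nat.card A := by
  have h1 : Nat.card (D hA h) = Nat.card (tw hA h).range :=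
    (Nat.card_congr ((tw hA h).range.equivMapOfInjective _ A.subtype_injective).toEquiv).symm
  have h3 : Nat.card (Ax hA h) = Nat.card (tw hA h).ker :=
    (Nat.card_congr ((tw hA h).ker.equivMapOfInjective _ A.subtype_injective).toEquiv).symm
  rw [h1, h3, Subgroup.card_eq_card_quotient_mul_card_subgroup (tw hA h).ker]
  congr 1
  exact Nat.card_congr (QuotientGroup.quotientKerEquivRange (tw hA h)).toEquiv.symm

include hA h h2

theorem d_mem {a : H} (ha : a ∈ A) (m : M) : d a m ∈ cv M (A : Set H) := fun b hb => hA.quad a ha b hb m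

/-- `(1)` -/
theorem eq1 {a : H} (ha : a ∈ A) (m : M) : d a m = d (x * a * x⁻¹) (x • m) := by
  rw [← vd_smul h2]
  exact (h.cent _ (d_mem h2 hA h ha m)).symm

/-- `(a)` -/
theorem range_le : (dh h2 x).range ≤ cv M (Ax hA h : Set H) := by
  rintro _ ⟨m, rfl⟩ a ha
  obtain ⟨ha1, ha2⟩ := (mem_Ax hA h).1 ha
  have h1 := eq1 h2 hA h ha1 m
  rw [ha2, vsmul h2 x m, vd_mul h2] at h1
  have h3 : d a (d x m) = 1 := by
    have h4 : d a (d x m) * d a m * (d a m)⁻¹ = 1 := by rw [← h1, mul_inv_cancel]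
    rwa [mul_inv_cancel_right] at h4
  exact (vd_one_iff h2 _ _).1 h3

/-- `M_x` -/
def Mx (_ : Exact M A) (_ : Sit M A x) : Subgroup M := (cv M (A : Set H)).comap (dh h2 x)

/-- `(b)` -/
theorem Mx_le : Mx h2 hA h ≤ cv M (D hA h : Set H) := by
  intro m hm
  have hm' : d x m ∈ cv M (A : Set H) := hm
  rintro _ he
  obtain ⟨a, ha, rfl⟩ := (mem_D hA h).1 he
  have h1 := eq1 h2 hA h ha m
  have h3 : d (x * a * x⁻¹) (d x m) = 1 := (vd_one_iff h2 _ _).2 (hm' _ (h.norm a ha))
  rw [vsmul h2 x m, vd_mul h2, h3, one_mul] at h1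
  have h4 : a • m = (x * a * x⁻¹) • m := by rw [vsmul h2 a, vsmul h2 (x * a * x⁻¹), h1]
  rw [mul_smul, ← h4, ← mul_smul, hA.sq a ha, one_smul]

/-- `|M : M_x| |[M,x] ∩ C| = |[M,x]|` -/
theorem card_Mx [Finite M] : Nat.card (Mx h2 hA h) * Nat.card (dh h2 x).range =
    Nat.card M * Nat.card ((dh h2 x).range ⊓ cv M (A : Set H) : Subgroup M) := by
  have h1 : Nat.card M = Nat.card (dh h2 x).range * Nat.card (dh h2 x).ker := by
    rw [Subgroup.card_eq_card_quotient_mul_card_subgroup (dh h2 x).ker]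
    congr 1
    exact Nat.card_congr (QuotientGroup.quotientKerEquivRange (dh h2 x)).toEquiv
  have h3 : Nat.card (Mx h2 hA h) =
      Nat.card ((dh h2 x).range ⊓ cv M (A : Set H) : Subgroup M) * Nat.card (dh h2 x).ker := by
    have hk : (dh h2 x).ker ≤ Mx h2 hA h := by
      intro m hm
      change d x m ∈ cv M (A : Set H)
      rw [show d x m = 1 from hm]
      exact one_mem _
    set f : Mx h2 hA h →* M := (dh h2 x).comp (Mx h2 hA h).subtype with hf
    have hr : f.range = (dh h2 x).range ⊓ cv M (A : Set H) := by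
      apply le_antisymm
      · rintro _ ⟨m, rfl⟩
        exact ⟨⟨m, rfl⟩, m.2⟩
      · rintro _ ⟨⟨m, rfl⟩, hm⟩
        exact ⟨⟨m, hm⟩, rfl⟩
    have hker : Nat.card f.ker = Nat.card (dh h2 x).ker := by
      have : f.ker = (dh h2 x).ker.subgroupOf (Mx h2 hA h) := by
        ext m
        rfl
      rw [this]
      exact Nat.card_congr (Subgroup.subgroupOfEquivOfLe hk).toEquiv
    rw [Subgroup.card_eq_card_quotient_mul_card_subgroup f.ker, hker, ← hr]
    congr 1
    exact Nat.card_congr (QuotientGroup.quotientKerEquivRange f).toEquiv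
  rw [h3, h1]
  ring

/-- `(c)`: all inequalities are equalities -/
theorem eqs [Finite H] [Finite M] : Mx h2 hA h = cv M (D hA h : Set H) ∧
    Nat.card (D hA h) * Nat.card (cv M (D hA h : Set H)) = Nat.card M ∧
    (dh h2 x).range ⊔ cv M (A : Set H) = cv M (Ax hA h : Set H) ∧
    Nat.card (Ax hA h) * Nat.card (cv M (Ax hA h : Set H)) = Nat.card M := by
  have e1 := h.no _ (D_le hA h)
  have e2 := h.no _ (Ax_le hA h)
  have e3 := hA.eq
  have e4 := card_D_Ax hA h
  have e5 := card_Mx h2 hA h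
  have hCA : cv M (A : Set H) ≤ cv M (Ax hA h : Set H) := cv_anti (SetLike.coe_subset_coe.2 (Ax_le hA h))
  have e6 : Nat.card ((dh h2 x).range ⊔ cv M (A : Set H) : Subgroup M) *
      Nat.card ((dh h2 x).range ⊓ cv M (A : Set H) : Subgroup M) =
      Nat.card (dh h2 x).range * Nat.card (cv M (A : Set H)) := by
    apply card_sup_mul
    intro a _
    rw [mem_normalizer_iff]
    intro b
    rw [vcomm h2 a b, mul_inv_cancel_right]
  have e7 : Nat.card (Mx h2 hA h) ≤ Nat.card (cv M (D hA h : Set H)) := card_le_of_le (Mx_le h2 hA h)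
  have hsup : (dh h2 x).range ⊔ cv M (A : Set H) ≤ cv M (Ax hA h : Set H) := sup_le (range_le h2 hA h) hCA
  have e8 : Nat.card ((dh h2 x).range ⊔ cv M (A : Set H) : Subgroup M) ≤ Nat.card (cv M (Ax hA h : Set H)) :=
    card_le_of_le hsup
  unfold fo at e1 e2 e3
  set nD := Nat.card (D hA h)
  set nAx := Nat.card (Ax hA h)
  set nA := Nat.card A
  set nM := Nat.card M
  set nC := Nat.card (cv M (A : Set H))
  set nCD := Nat.card (cv M (D hA h : Set H))
  set nCAx := Nat.card (cv M (Ax hA h : Set H))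
  set nMx := Nat.card (Mx h2 hA h)
  set nR := Nat.card (dh h2 x).range
  set nI := Nat.card ((dh h2 x).range ⊓ cv M (A : Set H) : Subgroup M)
  set nS := Nat.card ((dh h2 x).range ⊔ cv M (A : Set H) : Subgroup M)
  have pD : 0 < nD := Nat.card_pos
  have pAx : 0 < nAx := Nat.card_pos
  have pM : 0 < nM := Nat.card_pos
  have pC : 0 < nC := Nat.card_pos
  have pCD : 0 < nCD := Nat.card_pos
  have pMx : 0 < nMx := Nat.card_pos
  have pI : 0 < nI := Nat.card_pos
  have pS : 0 < nS := Nat.card_pos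
  have pCAx : 0 < nCAx := Nat.card_pos
  -- `nMx * nS = nM * nC`
  have f1 : nMx * nS = nM * nC := by
    have : nMx * nS * nI = nM * nC * nI := by
      calc nMx * nS * nI = nMx * (nS * nI) := by ring
        _ = nMx * nR * nC := by rw [e6]; ring
        _ = nM * nC * nI := by rw [e5]; ring
    exact Nat.eq_of_mul_eq_mul_right pI this
  -- `nS ≤ nCAx`, `nAx * nCAx ≤ nM = nD nAx nC` so `nCAx ≤ nD nC`
  have f2 : nCAx ≤ nD * nC := by
    have : nAx * nCAx ≤ nAx * (nD * nC) := by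
      calc nAx * nCAx ≤ nM := e2
        _ = nAx * (nD * nC) := by rw [← e3, ← e4]; ring
    exact Nat.le_of_mul_le_mul_left this pAx
  -- `nM ≤ nMx nD`
  have f3 : nM ≤ nMx * nD := by
    have : nM * nC ≤ nMx * nD * nC := by
      calc nM * nC = nMx * nS := f1.symm
        _ ≤ nMx * (nD * nC) := Nat.mul_le_mul_left _ (e8.trans f2)
        _ = _ := by ring
    exact Nat.le_of_mul_le_mul_right this pC
  have f4 : nCD ≤ nMx := by
    have : nD * nCD ≤ nD * nMx := (e1.trans f3).trans (by rw [mul_comm])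
    exact Nat.le_of_mul_le_mul_left this pD
  have f5 : nMx = nCD := le_antisymm e7 f4
  have f6 : nD * nCD = nM := le_antisymm e1 (by rw [← f5, mul_comm]; exact f3)
  have f7 : nS = nD * nC := by
    have : nMx * nS = nMx * (nD * nC) := by
      rw [f1, ← f6, ← f5]; ring
    exact Nat.eq_of_mul_eq_mul_left pMx this
  have f8 : nS = nCAx := le_antisymm e8 (f2.trans f7.ge)
  refine ⟨eq_of_le_of_card_ge (Mx_le h2 hA h) f4, f6, eq_of_le_of_card_ge hsup f8.ge, ?_⟩
  rw [← f8, f7, ← e3, ← e4]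
  ring

/-- `(d)` -/
theorem mem_D_of [Finite H] [Finite M] {e : H} (he : e ∈ A) (hfix : ∀ m ∈ cv M (D hA h : Set H), e • m = m) :
    e ∈ D hA h := by
  obtain ⟨-, e1, -, -⟩ := eqs h2 hA h
  have hle : D hA h ⊔ zpowers e ≤ A := sup_le (D_le hA h) (zpowers_le.2 he)
  have e2 := h.no _ hle
  have h3 : cv M ((D hA h ⊔ zpowers e : Subgroup H) : Set H) = cv M (D hA h : Set H) := by
    rw [cv_sup]
    refine inf_eq_left.2 fun m hm => ?_
    have h4 : zpowers e ≤ MulAction.stabilizer H m := zpowers_le.2 (MulAction.mem_stabilizer_iff.2 (hfix m hm))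
    exact fun y hy => MulAction.mem_stabilizer_iff.1 (h4 hy)
  unfold fo at e2
  rw [h3, ← e1] at e2
  have h5 : Nat.card (D hA h ⊔ zpowers e : Subgroup H) ≤ Nat.card (D hA h) :=
    Nat.le_of_mul_le_mul_right e2 Nat.card_pos
  have h6 : D hA h = D hA h ⊔ zpowers e := eq_of_le_of_card_ge le_sup_left h5
  rw [h6]
  exact mem_sup_right (mem_zpowers e)

/-- `(e)` -/
theorem sq_mem_D [Finite H] [Finite M] : x * x ∈ D hA h := by
  obtain ⟨e1, -, -, -⟩ := eqs h2 hA h
  refine mem_D_of h2 hA h h.sqm fun m hm => ?_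
  rw [← e1] at hm
  have h1 : x • d x m = d x m := h.cent _ hm
  rw [mul_smul, vsmul h2 x m, smul_mul', h1, vsmul h2 x m, ← mul_assoc, h2, one_mul]

/-- `(f)` -/
theorem false_of_sq [Finite H] [Finite M] (hx : x ∉ A) (hxx : x * x = 1)
    (hno : ∀ E : Subgroup H, E ≤ A ⊔ zpowers x → (∀ a ∈ E, a * a = 1) → fo M E ≤ Nat.card M) : False := by
  obtain ⟨-, -, e3, e4⟩ := eqs h2 hA h
  set E : Subgroup H := Ax hA h ⊔ zpowers x with hE
  have hxc : ∀ a ∈ Ax hA h, x * a = a * x := by
    intro a ha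
    have := ((mem_Ax hA h).1 ha).2
    calc x * a = x * a * x⁻¹ * x := by group
      _ = a * x := by rw [this]
  have hn : Ax hA h ≤ normalizer (zpowers x : Set H) := by
    intro a ha
    have hc : Commute a x := (hxc a ha).symm
    rw [mem_normalizer_iff]
    intro b
    constructor
    · intro hb
      obtain ⟨k, rfl⟩ := mem_zpowers_iff.1 hb
      rw [(hc.zpow_right k).eq, mul_inv_cancel_right]
      exact hb
    · intro hb
      obtain ⟨k, hk⟩ := mem_zpowers_iff.1 hb
      have : b = x ^ k := by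
        have h5 : a * b = x ^ k * a := by rw [hk]; group
        rw [← (hc.zpow_right k).eq] at h5
        exact mul_left_cancel h5
      rw [this]
      exact zpow_mem (mem_zpowers x) k
  -- elements of `E`
  have hmem : ∀ y ∈ E, ∃ a ∈ Ax hA h, y = a ∨ y = a * x := by
    intro y hy
    have hy' : y ∈ ((Ax hA h ⊔ zpowers x : Subgroup H) : Set H) := hy
    rw [Subgroup.coe_mul_of_left_le_normalizer_right _ _ hn] at hy'
    obtain ⟨a, ha, b, hb, rfl⟩ := hy'
    refine ⟨a, ha, ?_⟩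
    obtain ⟨k, rfl⟩ := mem_zpowers_iff.1 hb
    rcases Int.even_or_odd' k with ⟨l, rfl | rfl⟩
    · left
      change a * x ^ (2 * l) = a
      rw [zpow_mul, zpow_two, hxx, one_zpow, mul_one]
    · right
      change a * x ^ (2 * l + 1) = a * x
      rw [zpow_add, zpow_mul, zpow_two, hxx, one_zpow, one_mul, zpow_one]
  have hEsq : ∀ y ∈ E, y * y = 1 := by
    intro y hy
    obtain ⟨a, ha, rfl | rfl⟩ := hmem y hy
    · exact hA.sq _ (Ax_le hA h ha)
    · calc a * x * (a * x) = a * (x * a) * x := by group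
        _ = a * a * (x * x) := by rw [hxc a ha]; group
        _ = 1 := by rw [hxx, hA.sq _ (Ax_le hA h ha), mul_one]
  have hno' := hno E (sup_le ((Ax_le hA h).trans le_sup_left) le_sup_right) hEsq
  have hcvE : cv M (Ax hA h : Set H) ≤ cv M (E : Set H) := by
    rw [hE, cv_sup]
    refine le_inf le_rfl ?_
    rw [← e3]
    refine sup_le ?_ ?_
    · rintro _ ⟨m, rfl⟩
      have h4 : x • d x m = d x m := by
        unfold d
        rw [smul_mul', ← mul_smul, hxx, one_smul, vcomm h2]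
      have h5 : zpowers x ≤ MulAction.stabilizer H (d x m) := zpowers_le.2 (MulAction.mem_stabilizer_iff.2 h4)
      exact fun y hy => MulAction.mem_stabilizer_iff.1 (h5 hy)
    · intro m hm
      have h5 : zpowers x ≤ MulAction.stabilizer H m := zpowers_le.2 (MulAction.mem_stabilizer_iff.2 (h.cent m hm))
      exact fun y hy => MulAction.mem_stabilizer_iff.1 (h5 hy)
  have hcard : Nat.card (Ax hA h) < Nat.card E := by
    have hle : Ax hA h ≤ E := le_sup_left
    rcases (card_le_of_le hle).lt_or_eq with h5 | h5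
    · exact h5
    · exfalso
      have h6 : Ax hA h = E := eq_of_le_of_card_ge hle h5.ge
      apply hx
      apply Ax_le hA h
      rw [h6]
      exact mem_sup_right (mem_zpowers x)
  have h7 : Nat.card M < fo M E := by
    unfold fo
    calc Nat.card M = Nat.card (Ax hA h) * Nat.card (cv M (Ax hA h : Set H)) := e4.symm
      _ < Nat.card E * Nat.card (cv M (Ax hA h : Set H)) := Nat.mul_lt_mul_of_pos_right hcard Nat.card_pos
      _ ≤ _ := Nat.mul_le_mul_left _ (card_le_of_le hcvE)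
  omega

end Sit

/-- An element outside `A`, normalising `A`, with square in `A`. -/
theorem exists_sq_mem [Finite H] {T A : Subgroup H} (hT : IsPGroup 2 T) (hA : A < T) :
    ∃ b ∈ T, b ∈ normalizer (A : Set H) ∧ b ∉ A ∧ b * b ∈ A := by
  have : Fact (Nat.Prime 2) := ⟨Nat.prime_two⟩
  obtain ⟨y, hy, hyD⟩ := SetLike.exists_of_lt (Cfsg.Agent.SmallSimple.SylowMaxInter.lt_inf_normalizer hT hA)
  obtain ⟨n, hn⟩ := hT ⟨y, hy.1⟩
  have hn' : y ^ 2 ^ n = 1 := by
    have := congrArg Subtype.val hn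
    simpa using this
  have hex : ∃ n, y ^ 2 ^ n ∈ A := ⟨n, by rw [hn']; exact one_mem _⟩
  classical
  have h1 := Nat.find_spec hex
  have h0 : Nat.find hex ≠ 0 := by
    intro h0
    rw [h0, pow_zero, pow_one] at h1
    exact hyD h1
  obtain ⟨k, hk⟩ := Nat.exists_eq_succ_of_ne_zero h0
  have h2 := Nat.find_min hex (m := k) (by omega)
  rw [hk] at h1
  refine ⟨y ^ 2 ^ k, pow_mem hy.1 _, pow_mem hy.2 _, h2, ?_⟩
  have e : y ^ 2 ^ k * y ^ 2 ^ k = y ^ 2 ^ (k + 1) := by
    rw [← pow_add, pow_succ, mul_two]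
  rw [e]
  exact h1

/-- the pointwise stabiliser of `C` in `O` -/
def fx (O : Subgroup H) (C : Subgroup M) : Subgroup H where
  carrier := {y | y ∈ O ∧ ∀ m ∈ C, y • m = m}
  one_mem' := ⟨one_mem _, fun m _ => one_smul _ m⟩
  mul_mem' := fun {a b} ha hb => ⟨mul_mem ha.1 hb.1, fun m hm => by rw [mul_smul, hb.2 m hm, ha.2 m hm]⟩
  inv_mem' := fun {a} ha => ⟨inv_mem ha.1, fun m hm => by rw [inv_smul_eq_iff, ha.2 m hm]⟩

/-- **THEOREM SC**: exact quadratic elementary abelian subgroups are self-centralising:  `C_O(C_M(A)) = A`. -/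
theorem Exact.self_central [Finite H] [Finite M] (h2 : ∀ v : M, v * v = 1) {O A : Subgroup H} (hO : IsPGroup 2 O)
    (hNO : NOel M O) (hA : Exact M A) (hAO : A ≤ O) {x : H} (hx : x ∈ O) (hfix : ∀ m ∈ cv M (A : Set H), x • m = m) :
    x ∈ A := by
  by_contra hxA
  set Y : Subgroup H := fx O (cv M (A : Set H)) with hY
  have hYO : Y ≤ O := fun y hy => hy.1
  have hAY : A ≤ Y := fun a ha => ⟨hAO ha, fun m hm => hm a ha⟩
  have hxY : x ∈ Y := ⟨hx, hfix⟩
  have hlt : A < Y := lt_of_le_of_ne hAY fun h => hxA (by rw [h]; exact hxY)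
  obtain ⟨b, hbY, hbN, hbA, hbb⟩ := exists_sq_mem (hO.to_le hYO) hlt
  have hnoA : ∀ E ≤ A, fo M E ≤ Nat.card M := fun E hE => hNO E (hE.trans hAO) fun a ha => hA.sq a (hE ha)
  have hs : Sit M A b :=
    { norm := fun a ha => (mem_normalizer_iff.1 hbN a).1 ha
      cent := hbY.2
      sqm := hbb
      no := hnoA }
  obtain ⟨a, ha, hab⟩ := (Sit.mem_D hA hs).1 (hs.sq_mem_D h2 hA)
  -- `c = a b` is an involution outside `A`
  have hcc : a * b * (a * b) = 1 := by
    calc a * b * (a * b) = a * (b * a * b⁻¹) * (b * b) := by group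
      _ = b * b * (b * b) := by rw [hab]
      _ = 1 := hA.sq _ hbb
  have hcA : a * b ∉ A := fun h => hbA ((mul_mem_cancel_left ha).1 h)
  have hcY : a * b ∈ Y := mul_mem (hAY ha) hbY
  have hs' : Sit M A (a * b) :=
    { norm := fun e he => by
        have h1 : a * (b * e * b⁻¹) * a⁻¹ ∈ A := mul_mem (mul_mem ha (hs.norm e he)) (inv_mem ha)
        have h3 : a * b * e * (a * b)⁻¹ = a * (b * e * b⁻¹) * a⁻¹ := by group
        rw [h3]
        exact h1
      cent := hcY.2
      sqm := by rw [hcc]; exact one_mem _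
      no := hnoA }
  exact hs'.false_of_sq h2 hA hcA hcc fun E hE hE' =>
    hNO E (hE.trans (sup_le hAO (zpowers_le.2 (hYO hcY)))) hE'

section Cor

variable [Finite H] [Finite M] (h2 : ∀ v : M, v * v = 1) {O A B : Subgroup H} (hO : IsPGroup 2 O) (hNO : NOel M O)
include h2 hO hNO

/-- `C_M(A) ≤ C_M(B)` implies `B ≤ A` -/
theorem Exact.le_of_cv_le (hA : Exact M A) (hAO : A ≤ O) (hBO : B ≤ O) (h : cv M (A : Set H) ≤ cv M (B : Set H)) :
    B ≤ A := fun b hb => hA.self_central h2 hO hNO hAO (hBO hb) fun _ hm => h hm b hb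

/-- exact groups with the same fixed points are equal -/
theorem Exact.eq_of_cv_eq (hA : Exact M A) (hB : Exact M B) (hAO : A ≤ O) (hBO : B ≤ O)
    (h : cv M (A : Set H) = cv M (B : Set H)) : A = B :=
  le_antisymm (hB.le_of_cv_le h2 hO hNO hBO hAO h.ge) (hA.le_of_cv_le h2 hO hNO hAO hBO h.le)

/-- an element normalising `O` and `C_M(A)` normalises `A` -/
theorem Exact.normalizes (hA : Exact M A) (hAO : A ≤ O) {g : H} (hgO : ∀ y ∈ O, g * y * g⁻¹ ∈ O)
    (hgC : ∀ m ∈ cv M (A : Set H), g⁻¹ • m ∈ cv M (A : Set H)) {a : H} (ha : a ∈ A) : g * a * g⁻¹ ∈ A := by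
  refine hA.self_central h2 hO hNO hAO (hgO a (hAO ha)) fun m hm => ?_
  have h1 : a • (g⁻¹ • m) = g⁻¹ • m := hgC m hm a ha
  rw [mul_smul, mul_smul, h1, smul_inv_smul]

end Cor

end Cfsg.Agent.Omega.Tools.ExactSC
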