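import Mathlib.GroupTheory.Transfer
import Mathlib.GroupTheory.Abelianization.Defs
import Mathlib.GroupTheory.PGroup
import Mathlib.GroupTheory.Sylow

/-!
# LEMMA J: transfer of an involution of `Z(J)`, `J` weakly closed in a Sylow 2-subgroup

* `transfer_eq_prod_fixed`: `x * x = 1`, `T` a 2-subgroup commuting with `x`: the transfer of `ϕ : H →* A` at `x` is
  the product of `ϕ (a⁻¹ x a)` over the cosets `aH` fixed by `T` and `x`.
* `transfer_eq`: if moreover all these values are equal to `y` and `H` has odd index, the transfer is `y`.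
* `lemmaJ`: `S` a Sylow 2-subgroup, `J ≤ S` weakly closed in `S`, `x` an involution commuting with `J`, all
  `N(J)`-conjugates of `x` in `S` are `S`-conjugates of `x`; then `ϕ x = transfer ϕ x` for all `ϕ : S →* A`.
* `mem_commutator`: if `G` has no nontrivial homomorphism onto an abelian 2-group, then `x ∈ S'`.
-/

set_option autoImplicit false

namespace Cfsg.Agent.Omega.Tools.LemmaJ

open MulAction Subgroup Function

section generic

/-- a product of values of exponent 2 is the product over the fixed points of a 2-group preserving the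
values -/
theorem prod_eq_prod_fixed {P Y A : Type*} [Group P] [MulAction P Y] [Fintype Y] [DecidableEq Y]
    [CommGroup A] (hP : IsPGroup 2 P) (f : Y → A) (hA : ∀ q, f q * f q = 1)
    (hf : ∀ (x : P) (q : Y), f (x • q) = f q) (s : Finset Y)
    (hs : ∀ q, q ∈ s ↔ ∀ x : P, x • q = q) : ∏ q, f q = ∏ q ∈ s, f q := by
  classical
  have hsub : ∀ q ∈ s, f q ∈ (Finset.univ : Finset Y).image f := fun q _ =>
    Finset.mem_image_of_mem _ (Finset.mem_univ q)
  rw [← Finset.prod_fiberwise_of_maps_to (s := Finset.univ) (t := Finset.univ.image f) (g := f)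
    (fun q hq => Finset.mem_image_of_mem f hq) f,
    ← Finset.prod_fiberwise_of_maps_to (s := s) (t := Finset.univ.image f) (g := f) hsub f]
  apply Finset.prod_congr rfl
  intro a ha
  obtain ⟨q₀, -, ha0⟩ := Finset.mem_image.1 ha
  rw [Finset.prod_congr rfl (fun q hq => (Finset.mem_filter.1 hq).2),
    Finset.prod_congr (s₁ := s.filter (fun q => f q = a)) rfl
      (fun q hq => (Finset.mem_filter.1 hq).2),
    Finset.prod_const, Finset.prod_const]
  let Z := {q : Y // f q = a}
  let _ : MulAction P Z :=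
    { smul := fun x q => ⟨x • q.1, by rw [hf]; exact q.2⟩
      one_smul := fun q => Subtype.ext (one_smul P q.1)
      mul_smul := fun x y q => Subtype.ext (mul_smul x y q.1) }
  have hcard := hP.card_modEq_card_fixedPoints Z
  have h1 : Nat.card Z = (Finset.univ.filter (fun q => f q = a)).card := by
    rw [Nat.subtype_card]
    intro q
    simp
  have h2 : Nat.card (fixedPoints P Z) = (s.filter (fun q => f q = a)).card := by
    have e : fixedPoints P Z ≃ {q : Y // (∀ x : P, x • q = q) ∧ f q = a} :=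
      { toFun := fun q => ⟨q.1.1, fun x => congrArg Subtype.val (q.2 x), q.1.2⟩
        invFun := fun q => ⟨⟨q.1, q.2.2⟩, fun x => Subtype.ext (q.2.1 x)⟩
        left_inv := fun q => rfl
        right_inv := fun q => rfl }
    rw [Nat.card_congr e, Nat.subtype_card]
    intro q
    rw [Finset.mem_filter, hs]
  rw [← h1, ← h2]
  have ha2 : a ^ 2 = 1 := by rw [pow_two, ← ha0, hA]
  rw [← Nat.div_add_mod (Nat.card Z) 2, ← Nat.div_add_mod (Nat.card (fixedPoints P Z)) 2, pow_add,
    pow_add, pow_mul, pow_mul, ha2, one_pow, one_pow, hcard]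

end generic

variable {G : Type*} [Group G] {A : Type*} [CommGroup A] {H : Subgroup G}

theorem smul_coe_eq_iff (x g h : G) : x • (g : G ⧸ H) = (h : G ⧸ H) ↔ h⁻¹ * x * g ∈ H := by
  rw [MulAction.Quotient.smul_mk, smul_eq_mul, eq_comm, QuotientGroup.eq, mul_assoc]

open Classical in
/-- the value at a coset -/
noncomputable def val (ϕ : H →* A) (x : G) (q : G ⧸ H) : A :=
  if h : q.out⁻¹ * x * q.out ∈ H then ϕ ⟨q.out⁻¹ * x * q.out, h⟩ else 1

theorem out_fixed_iff (x : G) (q : G ⧸ H) : q.out⁻¹ * x * q.out ∈ H ↔ x • q = q := by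
  rw [← smul_coe_eq_iff, QuotientGroup.out_eq']

theorem val_coe (ϕ : H →* A) (x a : G) (h : a⁻¹ * x * a ∈ H) :
    val ϕ x (a : G ⧸ H) = ϕ ⟨a⁻¹ * x * a, h⟩ := by
  obtain ⟨c, hc⟩ := QuotientGroup.mk_out_eq_mul H a
  have hfix : x • (a : G ⧸ H) = (a : G ⧸ H) := (smul_coe_eq_iff x a a).2 h
  have h2 := (out_fixed_iff x (a : G ⧸ H)).2 hfix
  rw [val, dif_pos h2]
  have e : (⟨(a : G ⧸ H).out⁻¹ * x * (a : G ⧸ H).out, h2⟩ : H) = c⁻¹ * ⟨a⁻¹ * x * a, h⟩ * c := by
    apply Subtype.ext
    change (a : G ⧸ H).out⁻¹ * x * (a : G ⧸ H).out = (c : G)⁻¹ * (a⁻¹ * x * a) * c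
    rw [hc]
    group
  rw [e, map_mul, map_mul, map_inv, mul_comm (ϕ c)⁻¹, inv_mul_cancel_right]

theorem val_of_not_fixed (ϕ : H →* A) (x : G) (q : G ⧸ H) (h : x • q ≠ q) : val ϕ x q = 1 := by
  rw [val, dif_neg]
  rw [out_fixed_iff]
  exact h

theorem val_mul_self (ϕ : H →* A) {x : G} (hx : x * x = 1) (q : G ⧸ H) :
    val ϕ x q * val ϕ x q = 1 := by
  by_cases h : x • q = q
  · have h2 := (out_fixed_iff x q).2 h
    rw [val, dif_pos h2, ← map_mul]
    have e : (⟨q.out⁻¹ * x * q.out, h2⟩ * ⟨q.out⁻¹ * x * q.out, h2⟩ : H) = 1 := by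
      apply Subtype.ext
      change q.out⁻¹ * x * q.out * (q.out⁻¹ * x * q.out) = 1
      calc _ = q.out⁻¹ * (x * x) * q.out := by group
        _ = 1 := by rw [hx]; group
    rw [e, map_one]
  · rw [val_of_not_fixed ϕ x q h, one_mul]

theorem val_smul (ϕ : H →* A) {x t : G} (ht : t * x = x * t) (q : G ⧸ H) :
    val ϕ x (t • q) = val ϕ x q := by
  obtain ⟨a, rfl⟩ := QuotientGroup.mk_surjective q
  have e : t • (a : G ⧸ H) = ((t * a : G) : G ⧸ H) := rfl
  rw [e]
  have e2 : (t * a)⁻¹ * x * (t * a) = a⁻¹ * x * a := by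
    calc (t * a)⁻¹ * x * (t * a) = a⁻¹ * (t⁻¹ * (x * t)) * a := by group
      _ = _ := by rw [← ht, inv_mul_cancel_left]
  by_cases h : a⁻¹ * x * a ∈ H
  · have h' : (t * a)⁻¹ * x * (t * a) ∈ H := by rw [e2]; exact h
    rw [val_coe ϕ x a h, val_coe ϕ x (t * a) h']
    congr 1
    exact Subtype.ext e2
  · rw [val_of_not_fixed, val_of_not_fixed]
    · intro hc; exact h ((smul_coe_eq_iff x a a).1 hc)
    · intro hc
      apply h
      rw [← e2]
      exact (smul_coe_eq_iff x (t * a) (t * a)).1 hc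

open Classical in
/-- the transfer at an element of order at most 2 -/
theorem transfer_eq_prod_val [Fintype (G ⧸ H)] [H.FiniteIndex] (ϕ : H →* A) {x : G}
    (hx : x * x = 1) : MonoidHom.transfer ϕ x = ∏ q : G ⧸ H, val ϕ x q := by
  have : Fintype (Quotient (orbitRel (zpowers x) (G ⧸ H))) := Fintype.ofFinite _
  rw [MonoidHom.transfer_eq_prod_quotient_orbitRel_zpowers_quot ϕ x,
    ← Finset.prod_fiberwise_of_maps_to (s := Finset.univ)
      (t := (Finset.univ : Finset (Quotient (orbitRel (zpowers x) (G ⧸ H)))))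
      (g := fun q => (Quotient.mk'' q : Quotient (orbitRel (zpowers x) (G ⧸ H))))
      (fun q _ => Finset.mem_univ _) (val ϕ x)]
  apply Finset.prod_congr rfl
  intro o _
  have hpow : ∀ i : ℤ, x ^ i = 1 ∨ x ^ i = x := by
    intro i
    rcases Int.even_or_odd' i with ⟨k, rfl | rfl⟩
    · left
      rw [zpow_mul, show x ^ (2 : ℤ) = x * x by rw [zpow_ofNat, pow_two], hx, one_zpow]
    · right
      rw [zpow_add, zpow_mul, show x ^ (2 : ℤ) = x * x by rw [zpow_ofNat, pow_two], hx, one_zpow,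
        one_mul, zpow_one]
  have hmem : ∀ q : G ⧸ H, (Quotient.mk'' q : Quotient (orbitRel (zpowers x) (G ⧸ H))) = o →
      q = o.out ∨ q = x • o.out := by
    intro q hq
    have h0 : (Quotient.mk'' q : Quotient (orbitRel (zpowers x) (G ⧸ H))) = Quotient.mk'' o.out := by
      rw [hq, Quotient.out_eq' o]
    have h1 : (orbitRel (zpowers x) (G ⧸ H)).r q o.out := Quotient.exact h0
    obtain ⟨⟨_, i, rfl⟩, hy⟩ := h1
    change x ^ i • o.out = q at hy
    rcases hpow i with h | h
    · left; rw [← hy, h, one_smul]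
    · right; rw [← hy, h]
  have hself : (Quotient.mk'' o.out : Quotient (orbitRel (zpowers x) (G ⧸ H))) = o :=
    Quotient.out_eq' o
  by_cases hfix : x • o.out = o.out
  · -- one point
    have hf : (Finset.univ.filter fun q : G ⧸ H =>
        (Quotient.mk'' q : Quotient (orbitRel (zpowers x) (G ⧸ H))) = o) = {o.out} := by
      ext q
      rw [Finset.mem_filter, Finset.mem_singleton]
      constructor
      · rintro ⟨-, h⟩
        rcases hmem q h with h | h
        · exact h
        · rw [h, hfix]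
      · rintro rfl
        exact ⟨Finset.mem_univ _, hself⟩
    rw [hf, Finset.prod_singleton, val, dif_pos ((out_fixed_iff x o.out).2 hfix)]
    congr 1
    apply Subtype.ext
    change o.out.out⁻¹ * x ^ minimalPeriod (x • ·) o.out * o.out.out = o.out.out⁻¹ * x * o.out.out
    have hp : minimalPeriod (x • ·) o.out = 1 :=
      minimalPeriod_eq_one_iff_isFixedPt.2 hfix
    rw [hp, pow_one]
  · have hf : ∀ q ∈ (Finset.univ.filter fun q : G ⧸ H =>
        (Quotient.mk'' q : Quotient (orbitRel (zpowers x) (G ⧸ H))) = o), val ϕ x q = 1 := by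
      intro q hq
      apply val_of_not_fixed
      intro hc
      rcases hmem q (Finset.mem_filter.1 hq).2 with h | h
      · rw [h] at hc; exact hfix hc
      · rw [h, smul_smul, hx, one_smul] at hc; exact hfix hc.symm
    rw [Finset.prod_congr rfl hf, Finset.prod_const_one]
    have hp : IsPeriodicPt (x • ·) 2 (o.out : G ⧸ H) := by
      change x • (x • o.out) = o.out
      rw [smul_smul, hx, one_smul]
    have hd := hp.minimalPeriod_dvd
    have h1 : minimalPeriod (x • ·) (o.out : G ⧸ H) ≠ 1 := fun h =>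
      hfix (minimalPeriod_eq_one_iff_isFixedPt.1 h)
    have h2 : minimalPeriod (x • ·) (o.out : G ⧸ H) = 2 := by
      rcases (Nat.dvd_prime Nat.prime_two).1 hd with h | h
      · exact absurd h h1
      · exact h
    have e : (⟨o.out.out⁻¹ * x ^ minimalPeriod (x • ·) o.out * o.out.out,
        QuotientGroup.out_conj_pow_minimalPeriod_mem H x o.out⟩ : H) = 1 := by
      apply Subtype.ext
      change o.out.out⁻¹ * x ^ minimalPeriod (x • ·) o.out * o.out.out = 1
      rw [h2, pow_two, hx, mul_one, inv_mul_cancel]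
    rw [e, map_one]

/-- **transfer at an involution**: all values at the cosets `aH` with `a⁻¹ T a ≤ H` are equal to `y`. -/
theorem transfer_eq [Finite G] (hodd : Odd H.index) (ϕ : H →* A) {x : G} (hx : x * x = 1)
    (T : Subgroup G) (hT : IsPGroup 2 T) (hTx : ∀ t ∈ T, t * x = x * t) (hxT : x ∈ T) (y : A)
    (hy : y * y = 1)
    (hf : ∀ a : G, (∀ t ∈ T, a⁻¹ * t * a ∈ H) → ∀ h : a⁻¹ * x * a ∈ H, ϕ ⟨a⁻¹ * x * a, h⟩ = y) :
    MonoidHom.transfer ϕ x = y := by
  classical
  have : Fintype (G ⧸ H) := Fintype.ofFinite _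
  rw [transfer_eq_prod_val ϕ hx]
  let s : Finset (G ⧸ H) := Finset.univ.filter fun q => ∀ t : T, t • q = q
  have hs : ∀ q, q ∈ s ↔ ∀ t : T, t • q = q := fun q => by simp [s]
  rw [prod_eq_prod_fixed (P := T) hT (val ϕ x) (val_mul_self ϕ hx)
    (fun t q => val_smul ϕ (hTx t t.2) q) s hs]
  have h1 : ∀ q ∈ s, val ϕ x q = y := by
    intro q hq
    obtain ⟨a, rfl⟩ := QuotientGroup.mk_surjective q
    have h2 : ∀ t ∈ T, a⁻¹ * t * a ∈ H := fun t ht =>
      (smul_coe_eq_iff t a a).1 ((hs _).1 hq ⟨t, ht⟩)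
    rw [val_coe ϕ x a (h2 x hxT)]
    exact hf a h2 _
  rw [Finset.prod_congr rfl h1, Finset.prod_const]
  have h3 : s.card = Nat.card (fixedPoints T (G ⧸ H)) := by
    have e : fixedPoints T (G ⧸ H) ≃ {q : G ⧸ H // q ∈ s} :=
      { toFun := fun q => ⟨q.1, (hs _).2 q.2⟩
        invFun := fun q => ⟨q.1, (hs _).1 q.2⟩
        left_inv := fun q => rfl
        right_inv := fun q => rfl }
    rw [Nat.card_congr e, Nat.card_eq_fintype_card, Fintype.card_coe]
  have h4 := hT.card_modEq_card_fixedPoints (G ⧸ H)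
  have h5 : Odd s.card := by
    rw [h3, Nat.odd_iff]
    have : H.index % 2 = 1 := Nat.odd_iff.1 hodd
    rw [Subgroup.index] at this
    rw [← this]
    exact h4.symm
  obtain ⟨k, hk⟩ := h5
  rw [hk, pow_add, pow_mul, pow_two, hy, one_pow, one_mul, pow_one]

/-- **LEMMA J**: transfer is the restriction on an involution `x` of the centralizer of a weakly closed `J`. -/
theorem lemmaJ [Finite G] (S : Sylow 2 G) (J : Subgroup G) (hJS : J ≤ S)
    (hJ : ∀ g : G, (∀ j ∈ J, g * j * g⁻¹ ∈ S) → ∀ j ∈ J, g * j * g⁻¹ ∈ J) {x : G} (hx : x * x = 1)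
    (hxJ : x ∈ J) (hxc : ∀ j ∈ J, j * x = x * j)
    (hN : ∀ g ∈ normalizer (J : Set G), g * x * g⁻¹ ∈ S →
      ∃ s ∈ S, g * x * g⁻¹ = s * x * s⁻¹) (ϕ : (S : Subgroup G) →* A) :
    MonoidHom.transfer ϕ x = ϕ ⟨x, hJS hxJ⟩ := by
  refine transfer_eq ?_ ϕ hx J (S.2.to_le hJS) hxc hxJ _ ?_ ?_
  · rw [Nat.odd_iff, ← Nat.not_even_iff, even_iff_two_dvd]
    exact S.not_dvd_index
  · rw [← map_mul]
    have : (⟨x, hJS hxJ⟩ * ⟨x, hJS hxJ⟩ : (S : Subgroup G)) = 1 := Subtype.ext hx
    rw [this, map_one]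
  · intro a ha h
    have h1 : ∀ j ∈ J, a⁻¹ * j * a⁻¹⁻¹ ∈ S := fun j hj => by rw [inv_inv]; exact ha j hj
    have h2 := hJ a⁻¹ h1
    have h3 : a⁻¹ ∈ normalizer (J : Set G) := by
      rw [mem_normalizer_iff]
      intro j
      refine ⟨h2 j, fun hj => ?_⟩
      -- `J` is finite, conjugation is injective on it
      have hfin : Finite J := inferInstance
      let f : J → J := fun j => ⟨a⁻¹ * j * a⁻¹⁻¹, h2 j j.2⟩
      have hinj : Function.Injective f := by
        intro u v huv
        have := congrArg Subtype.val huv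
        exact Subtype.ext (mul_left_cancel (mul_right_cancel this))
      obtain ⟨u, hu⟩ := Finite.surjective_of_injective hinj ⟨_, hj⟩
      have := congrArg Subtype.val hu
      rw [← mul_left_cancel (mul_right_cancel this)]
      exact u.2
    have h4 : a⁻¹ * x * a⁻¹⁻¹ ∈ S := by rw [inv_inv]; exact h
    obtain ⟨s, hs, h5⟩ := hN a⁻¹ h3 h4
    rw [inv_inv] at h5
    have e : (⟨a⁻¹ * x * a, h⟩ : (S : Subgroup G)) = ⟨s, hs⟩ * ⟨x, hJS hxJ⟩ * ⟨s, hs⟩⁻¹ :=
      Subtype.ext h5
    rw [e, map_mul, map_mul, map_inv, mul_comm (ϕ ⟨s, hs⟩), mul_inv_cancel_right]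

/-- **LEMMA J**: `G` without nontrivial homomorphisms to abelian 2-groups. -/
theorem mem_commutator [Finite G] (S : Sylow 2 G) (J : Subgroup G) (hJS : J ≤ S)
    (hJ : ∀ g : G, (∀ j ∈ J, g * j * g⁻¹ ∈ S) → ∀ j ∈ J, g * j * g⁻¹ ∈ J) {x : G} (hx : x * x = 1)
    (hxJ : x ∈ J) (hxc : ∀ j ∈ J, j * x = x * j)
    (hN : ∀ g ∈ normalizer (J : Set G), g * x * g⁻¹ ∈ S →
      ∃ s ∈ S, g * x * g⁻¹ = s * x * s⁻¹)
    (hG : ∀ g : G, g ∈ commutator G) :
    (⟨x, hJS hxJ⟩ : (S : Subgroup G)) ∈ commutator (S : Subgroup G) := by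
  have h1 := lemmaJ S J hJS hJ hx hxJ hxc hN (Abelianization.of (G := (S : Subgroup G)))
  have h2 : MonoidHom.transfer (Abelianization.of (G := (S : Subgroup G))) x = 1 := by
    have h3 : commutator G ≤ (MonoidHom.transfer (Abelianization.of (G := (S : Subgroup G)))).ker :=
      Abelianization.commutator_subset_ker _
    exact h3 (hG x)
  rw [h2] at h1
  rw [← Abelianization.ker_of]
  exact h1.symm

theorem commutator_eq_top_of_simple [IsSimpleGroup G] (hG : ¬ ∀ p q : G, p * q = q * p) :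
    commutator G = ⊤ := by
  rcases (inferInstance : (commutator G).Normal).eq_bot_or_eq_top with h | h
  · refine absurd (fun p q => ?_) hG
    have h1 := commutator_mem_commutator (mem_top p) (mem_top q)
    rw [← commutator_def, h, mem_bot, commutatorElement_eq_one_iff_mul_comm] at h1
    exact h1
  · exact h

/-- **LEMMA J** for simple groups -/
theorem mem_commutator_of_simple [Finite G] [IsSimpleGroup G] (hG : ¬ ∀ p q : G, p * q = q * p)
    (S : Sylow 2 G) (J : Subgroup G) (hJS : J ≤ S)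
    (hJ : ∀ g : G, (∀ j ∈ J, g * j * g⁻¹ ∈ S) → ∀ j ∈ J, g * j * g⁻¹ ∈ J) {x : G} (hx : x * x = 1)
    (hxJ : x ∈ J) (hxc : ∀ j ∈ J, j * x = x * j)
    (hN : ∀ g ∈ normalizer (J : Set G), g * x * g⁻¹ ∈ S →
      ∃ s ∈ S, g * x * g⁻¹ = s * x * s⁻¹) :
    (⟨x, hJS hxJ⟩ : (S : Subgroup G)) ∈ commutator (S : Subgroup G) :=
  mem_commutator S J hJS hJ hx hxJ hxc hN fun g => by
    rw [commutator_eq_top_of_simple hG]; exact mem_top g

end Cfsg.Agent.Omega.Tools.LemmaJ
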