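import Mathlib

/-!
# Mini-McLaughlin (helper359, #13408 (4)): groups generated by large transvection groups over `F_2`

Abstract form.  `V` is a finite space over `F_2`, `P` a spanning set of nonzero vectors and `Φ p`
(`p ∈ P`) a space of functionals vanishing at `p`, of dimension at least 2, the same for all `p`
(think of the transvections with centre `p` in a group).  Then `P ∪ {0}` is a disjoint union of
subspaces `comp p`, `V` is their direct sum, and `Φ p` is the space of all functionals vanishing at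
`p` and on all the other components.
-/

set_option autoImplicit false
set_option linter.unusedSectionVars false

namespace Cfsg.Agent.Omega.Tools.MiniMcL

open Module

variable {V : Type*} [AddCommGroup V] [Module (ZMod 2) V]

/-- The data. -/
structure Sys (P : Set V) (Φ : V → Submodule (ZMod 2) (Dual (ZMod 2) V)) : Prop where
  zero : (0 : V) ∉ P
  van : ∀ p ∈ P, ∀ φ ∈ Φ p, φ p = 0
  move : ∀ p ∈ P, ∀ φ ∈ Φ p, ∀ q ∈ P, φ q = 1 → q + p ∈ P
  conj : ∀ p ∈ P, ∀ φ ∈ Φ p, ∀ q ∈ P, φ q = 1 → ∀ ψ ∈ Φ q, ψ + ψ p • φ ∈ Φ (q + p)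
  prod : ∀ p ∈ P, ∀ q ∈ P, ∀ ψ ∈ Φ q, ψ ∈ Φ (q + p) → ψ ∈ Φ p
  rank : ∀ p ∈ P, ∀ q ∈ P, finrank (ZMod 2) (Φ p) = finrank (ZMod 2) (Φ q)
  span : Submodule.span (ZMod 2) P = ⊤
  fix : ∀ w : V, (∀ p ∈ P, ∀ φ ∈ Φ p, φ w = 0) → w = 0
  two : ∀ p ∈ P, 2 ≤ finrank (ZMod 2) (Φ p)

/-- `p ~ q`. -/
def Rel (Φ : V → Submodule (ZMod 2) (Dual (ZMod 2) V)) (p q : V) : Prop := ∃ φ ∈ Φ p, φ q = 1

theorem zmod_cases (a : ZMod 2) : a = 0 ∨ a = 1 := by
  revert a; decide

theorem zmod_eq_one {a : ZMod 2} (h : a ≠ 0) : a = 1 := (zmod_cases a).resolve_left h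

theorem add_self (v : V) : v + v = 0 := by
  have h : (2 : ZMod 2) • v = v + v := two_smul _ v
  have h2 : (2 : ZMod 2) = 0 := by decide
  rw [h2, zero_smul] at h
  exact h.symm

theorem eq_of_add {a b : V} (h : a + b = 0) : a = b := by
  have := congrArg (· + b) h
  simpa [add_assoc, add_self] using this

variable {P : Set V} {Φ : V → Submodule (ZMod 2) (Dual (ZMod 2) V)}

theorem not_rel {p q : V} (h : ¬ Rel Φ p q) {φ : Dual (ZMod 2) V} (hφ : φ ∈ Φ p) : φ q = 0 := by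
  by_contra h1
  exact h ⟨φ, hφ, zmod_eq_one h1⟩

/-- (a) -/
theorem Sys.a (S : Sys P Φ) {p q : V} (hp : p ∈ P) (hq : q ∈ P) (h : Rel Φ p q)
    {χ : Dual (ZMod 2) V} (hχ : χ ∈ Φ q) (h0 : χ p = 0) : χ ∈ Φ p := by
  obtain ⟨φ, hφ, h1⟩ := h
  have h2 := S.conj p hp φ hφ q hq h1 χ hχ
  rw [h0, zero_smul, add_zero] at h2
  exact S.prod p hp q hq χ hχ h2

variable [FiniteDimensional (ZMod 2) V]

/-- (b) -/
theorem Sys.symm (S : Sys P Φ) {p q : V} (hp : p ∈ P) (hq : q ∈ P) (h : Rel Φ p q) : Rel Φ q p := by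
  by_contra h1
  have h2 : Φ q ≤ Φ p := fun χ hχ => S.a hp hq h hχ (not_rel h1 hχ)
  have h3 : Φ q = Φ p := Submodule.eq_of_le_of_finrank_eq h2 (S.rank q hq p hp)
  obtain ⟨φ, hφ, h4⟩ := h
  rw [← h3] at hφ
  rw [S.van q hq φ hφ] at h4
  exact zero_ne_one h4

/-- (c), first part -/
theorem Sys.c1 (S : Sys P Φ) {p q r : V} (hp : p ∈ P) (hq : q ∈ P) (hr : r ∈ P) (h1 : Rel Φ p q)
    (h2 : Rel Φ q r) (h3 : ¬ Rel Φ p r) {χ : Dual (ZMod 2) V} (hχ : χ ∈ Φ q) :
    χ p = 0 ↔ χ r = 0 := by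
  have h4 : ¬ Rel Φ r p := fun h => h3 (S.symm hr hp h)
  constructor
  · intro h
    exact not_rel h3 (S.a hp hq h1 hχ h)
  · intro h
    exact not_rel h4 (S.a hr hq (S.symm hq hr h2) hχ h)

/-- a functional of `Φ p` killing `q` but not everything -/
theorem Sys.exists_sep (S : Sys P Φ) {p : V} (hp : p ∈ P) (q : V) :
    ∃ χ ∈ Φ p, χ q = 0 ∧ ∃ r ∈ P, χ r = 1 := by
  obtain ⟨χ, hχ, h0, hne⟩ : ∃ χ ∈ Φ p, χ q = 0 ∧ χ ≠ 0 := by
    by_contra hcon
    push Not at hcon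
    have hinj : Function.Injective
        ((Dual.eval (ZMod 2) V q).comp (Φ p).subtype : Φ p →ₗ[ZMod 2] ZMod 2) := by
      rw [← LinearMap.ker_eq_bot, LinearMap.ker_eq_bot']
      rintro ⟨χ, hχ⟩ h
      have h1 : χ q = 0 := h
      exact Subtype.ext (hcon χ hχ h1)
    have h2 := LinearMap.finrank_le_finrank_of_injective hinj
    have h3 := S.two p hp
    rw [Module.finrank_self] at h2
    omega
  refine ⟨χ, hχ, h0, ?_⟩
  by_contra hcon
  push Not at hcon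
  apply hne
  have h1 : Submodule.span (ZMod 2) P ≤ LinearMap.ker χ := by
    rw [Submodule.span_le]
    intro r hr
    rcases zmod_cases (χ r) with h | h
    · exact h
    · exact absurd h (hcon r hr)
  rw [S.span] at h1
  ext v
  exact h1 (Submodule.mem_top : v ∈ (⊤ : Submodule (ZMod 2) V))

/-- (c): a point at distance two is the same point -/
theorem Sys.c2 (S : Sys P Φ) {p q r : V} (hp : p ∈ P) (hq : q ∈ P) (hr : r ∈ P) (h1 : Rel Φ p q)
    (h2 : Rel Φ q r) (h3 : ¬ Rel Φ p r) : p = r := by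
  obtain ⟨χ, hχ, h0, q2, hq2, hχ2⟩ := S.exists_sep hp q
  have hpq2 : Rel Φ p q2 := ⟨χ, hχ, hχ2⟩
  -- `q ~ q2`
  have hqq2 : Rel Φ q q2 := by
    by_contra hcon
    have h4 := (S.c1 hq hp hq2 (S.symm hp hq h1) hpq2 hcon hχ).1 h0
    rw [hχ2] at h4
    exact one_ne_zero h4
  have hχq : χ ∈ Φ q := S.a hq hp (S.symm hp hq h1) hχ h0
  -- `r ~ q2`
  have hrq2 : Rel Φ r q2 := by
    by_contra hcon
    have h4 := (S.c1 hr hq hq2 (S.symm hq hr h2) hqq2 hcon hχq).1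
      ((S.c1 hp hq hr h1 h2 h3 hχq).1 (S.van p hp χ hχ))
    rw [hχ2] at h4
    exact one_ne_zero h4
  have hq2r : Rel Φ q2 r := S.symm hr hq2 hrq2
  have key : ∀ x ∈ P, Rel Φ p x → Rel Φ x r → ∀ φ ∈ Φ p, φ x = 0 → φ ∈ Φ r := by
    intro x hx hpx hxr φ hφ h
    have h4 : φ ∈ Φ x := S.a hx hp (S.symm hp hx hpx) hφ h
    exact S.a hr hx (S.symm hx hr hxr) h4 ((S.c1 hp hx hr hpx hxr h3 h4).1 (S.van p hp φ hφ))
  have hle : Φ p ≤ Φ r := by
    intro φ hφ
    by_cases h4 : φ q = 0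
    · exact key q hq h1 h2 φ hφ h4
    by_cases h5 : φ q2 = 0
    · exact key q2 hq2 hpq2 hq2r φ hφ h5
    have h6 : φ + χ ∈ Φ r := by
      refine key q2 hq2 hpq2 hq2r _ ((Φ p).add_mem hφ hχ) ?_
      rw [LinearMap.add_apply, zmod_eq_one h5, hχ2]
      decide
    have h7 : χ ∈ Φ r := key q hq h1 h2 χ hχ h0
    have h8 := (Φ r).add_mem h6 h7
    rwa [add_assoc, add_self, add_zero] at h8
  have heq : Φ p = Φ r := Submodule.eq_of_le_of_finrank_eq hle (S.rank p hp r hr)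
  apply eq_of_add
  apply S.fix
  intro x hx ξ hξ
  rw [map_add]
  by_cases h4 : Rel Φ x p
  · have h5 : Rel Φ r x := by
      obtain ⟨φ, hφ, h6⟩ := S.symm hx hp h4
      exact ⟨φ, heq ▸ hφ, h6⟩
    have h6 := S.c1 hp hx hr (S.symm hx hp h4) (S.symm hr hx h5) h3 hξ
    rcases zmod_cases (ξ p) with h7 | h7 <;> rcases zmod_cases (ξ r) with h8 | h8
    · rw [h7, h8]; decide
    · rw [h6.1 h7] at h8; exact absurd h8 zero_ne_one
    · rw [h6.2 h8] at h7; exact absurd h7 zero_ne_one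
    · rw [h7, h8]; decide
  · have h5 : ¬ Rel Φ x r := by
      intro h
      obtain ⟨φ, hφ, h6⟩ := S.symm hx hr h
      exact h4 (S.symm hp hx ⟨φ, heq ▸ hφ, h6⟩)
    rw [not_rel h4 hξ, not_rel h5 hξ, add_zero]

theorem Sys.trans (S : Sys P Φ) {p q r : V} (hp : p ∈ P) (hq : q ∈ P) (hr : r ∈ P) (h1 : Rel Φ p q)
    (h2 : Rel Φ q r) : p = r ∨ Rel Φ p r := by
  by_cases h3 : Rel Φ p r
  · exact Or.inr h3
  · exact Or.inl (S.c2 hp hq hr h1 h2 h3)

theorem Sys.irrefl (S : Sys P Φ) {p : V} (hp : p ∈ P) : ¬ Rel Φ p p := by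
  rintro ⟨φ, hφ, h⟩
  rw [S.van p hp φ hφ] at h
  exact zero_ne_one h

theorem Sys.add_mem (S : Sys P Φ) {p q : V} (hp : p ∈ P) (hq : q ∈ P) (h : Rel Φ p q) :
    q + p ∈ P ∧ Rel Φ p (q + p) := by
  obtain ⟨φ, hφ, h1⟩ := h
  refine ⟨S.move p hp φ hφ q hq h1, φ, hφ, ?_⟩
  rw [map_add, h1, S.van p hp φ hφ, add_zero]

/-- **The component of `p`.** -/
def Sys.comp (S : Sys P Φ) {p : V} (hp : p ∈ P) : Submodule (ZMod 2) V where
  carrier := {w | w = 0 ∨ w = p ∨ (w ∈ P ∧ Rel Φ p w)}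
  zero_mem' := Or.inl rfl
  add_mem' := by
    rintro x y (rfl | rfl | ⟨hx, hpx⟩) (rfl | rfl | ⟨hy, hpy⟩)
    · left; rw [add_zero]
    · right; left; rw [zero_add]
    · right; right; rw [zero_add]; exact ⟨hy, hpy⟩
    · right; left; rw [add_zero]
    · left; exact add_self _
    · right; right
      have := S.add_mem hp hy hpy
      rwa [add_comm] at this
    · right; right; rw [add_zero]; exact ⟨hx, hpx⟩
    · right; right; exact S.add_mem hp hx hpx
    · by_cases hxy : x = y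
      · left; rw [hxy, add_self]
      have h1 : Rel Φ x y := (S.trans hx hp hy (S.symm hp hx hpx) hpy).resolve_left hxy
      obtain ⟨h2, h3⟩ := S.add_mem hx hy h1
      right
      rw [add_comm x y]
      rcases S.trans hp hx h2 hpx h3 with h4 | h4
      · exact Or.inl h4.symm
      · exact Or.inr ⟨h2, h4⟩
  smul_mem' := by
    intro c x hx
    rcases zmod_cases c with rfl | rfl
    · left; rw [zero_smul]
    · rwa [one_smul]

theorem Sys.mem_comp (S : Sys P Φ) {p : V} (hp : p ∈ P) {w : V} :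
    w ∈ S.comp hp ↔ w = 0 ∨ w = p ∨ (w ∈ P ∧ Rel Φ p w) := Iff.rfl

theorem Sys.self_mem (S : Sys P Φ) {p : V} (hp : p ∈ P) : p ∈ S.comp hp := Or.inr (Or.inl rfl)

theorem Sys.mem_P (S : Sys P Φ) {p : V} (hp : p ∈ P) {w : V} (hw : w ∈ S.comp hp) (h0 : w ≠ 0) :
    w ∈ P := by
  rcases hw with h | rfl | ⟨h, -⟩
  · exact absurd h h0
  · exact hp
  · exact h

theorem Sys.mem_comp_iff (S : Sys P Φ) {p q : V} (hp : p ∈ P) (hq : q ∈ P) :
    q ∈ S.comp hp ↔ q = p ∨ Rel Φ p q := by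
  rw [S.mem_comp]
  constructor
  · rintro (h | h | h)
    · exact absurd (h ▸ hq) S.zero
    · exact Or.inl h
    · exact Or.inr h.2
  · rintro (h | h)
    · exact Or.inr (Or.inl h)
    · exact Or.inr (Or.inr ⟨hq, h⟩)

theorem Sys.comp_le (S : Sys P Φ) {p q : V} (hp : p ∈ P) (hq : q ∈ P) (h : q ∈ S.comp hp) :
    S.comp hq ≤ S.comp hp := by
  intro w hw
  by_cases h0 : w = 0
  · rw [h0]; exact Submodule.zero_mem _
  have hwP := S.mem_P hq hw h0
  rw [S.mem_comp_iff hp hwP]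
  rcases (S.mem_comp_iff hp hq).1 h with rfl | h
  · exact (S.mem_comp_iff hq hwP).1 hw
  rcases (S.mem_comp_iff hq hwP).1 hw with rfl | h2
  · exact Or.inr h
  rcases S.trans hp hq hwP h h2 with h3 | h3
  · exact Or.inl h3.symm
  · exact Or.inr h3

theorem Sys.comp_eq (S : Sys P Φ) {p q : V} (hp : p ∈ P) (hq : q ∈ P) (h : q ∈ S.comp hp) :
    S.comp hq = S.comp hp := by
  refine le_antisymm (S.comp_le hp hq h) (S.comp_le hq hp ?_)
  rw [S.mem_comp_iff hq hp]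
  rcases (S.mem_comp_iff hp hq).1 h with rfl | h
  · exact Or.inl rfl
  · exact Or.inr (S.symm hp hq h)

/-- `Φ p` kills the other components. -/
theorem Sys.apply_eq_zero (S : Sys P Φ) {p q : V} (hp : p ∈ P) (hq : q ∈ P) (h : q ∉ S.comp hp)
    {φ : Dual (ZMod 2) V} (hφ : φ ∈ Φ p) : φ q = 0 :=
  not_rel (fun h1 => h ((S.mem_comp_iff hp hq).2 (Or.inr h1))) hφ

theorem Sys.apply_comp (S : Sys P Φ) {p q : V} (hp : p ∈ P) (hq : q ∈ P)
    (h : S.comp hq ≠ S.comp hp) {φ : Dual (ZMod 2) V} (hφ : φ ∈ Φ p) {w : V} (hw : w ∈ S.comp hq) :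
    φ w = 0 := by
  by_cases h0 : w = 0
  · rw [h0, map_zero]
  have hwP := S.mem_P hq hw h0
  refine S.apply_eq_zero hp hwP (fun h1 => h ?_) hφ
  rw [← S.comp_eq hq hwP hw, S.comp_eq hp hwP h1]

/-- an element of `Φ p` is determined by its restriction to the component -/
theorem Sys.ext_of (S : Sys P Φ) {p : V} (hp : p ∈ P) {φ ψ : Dual (ZMod 2) V} (hφ : φ ∈ Φ p)
    (hψ : ψ ∈ Φ p) (h : ∀ w ∈ S.comp hp, φ w = ψ w) : φ = ψ := by
  have h1 : Submodule.span (ZMod 2) P ≤ LinearMap.ker (φ - ψ) := by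
    rw [Submodule.span_le]
    intro q hq
    show (φ - ψ) q = 0
    rw [LinearMap.sub_apply, sub_eq_zero]
    by_cases h2 : q ∈ S.comp hp
    · exact h q h2
    · rw [S.apply_eq_zero hp hq h2 hφ, S.apply_eq_zero hp hq h2 hψ]
  rw [S.span] at h1
  ext v
  have := h1 (Submodule.mem_top : v ∈ (⊤ : Submodule (ZMod 2) V))
  exact sub_eq_zero.1 this

/-- every functional on the component which vanishes at `p` is the restriction of an element of
`Φ p` -/
theorem Sys.exists_of (S : Sys P Φ) {p : V} (hp : p ∈ P) (f : Dual (ZMod 2) (S.comp hp))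
    (hf : f ⟨p, S.self_mem hp⟩ = 0) : ∃ φ ∈ Φ p, ∀ w (hw : w ∈ S.comp hp), φ w = f ⟨w, hw⟩ := by
  let res : Dual (ZMod 2) V →ₗ[ZMod 2] Dual (ZMod 2) (S.comp hp) :=
    (S.comp hp).subtype.dualMap
  let K : Submodule (ZMod 2) (Dual (ZMod 2) (S.comp hp)) := (Φ p).map res
  have hK : f ∈ K := by
    rw [← Subspace.dualCoannihilator_dualAnnihilator_eq (W := K), Submodule.mem_dualAnnihilator]
    rintro ⟨w, hw⟩ h1
    rw [Submodule.mem_dualCoannihilator] at h1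
    by_cases h0 : w = 0
    · subst h0; exact map_zero f
    have hwP := S.mem_P hp hw h0
    rcases (S.mem_comp_iff hp hwP).1 hw with rfl | ⟨φ, hφ, h2⟩
    · exact hf
    · have h3 := h1 (res φ) (Submodule.mem_map_of_mem hφ)
      have h4 : φ w = 0 := h3
      rw [h2] at h4
      exact absurd h4 one_ne_zero
  obtain ⟨φ, hφ, h1⟩ := hK
  exact ⟨φ, hφ, fun w hw => by rw [← h1]; rfl⟩

/-- The set of components. -/
def Sys.comps (S : Sys P Φ) : Set (Submodule (ZMod 2) V) :=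
  {U | ∃ (p : V) (hp : p ∈ P), U = S.comp hp}

theorem Sys.exists_rel (S : Sys P Φ) {p : V} (hp : p ∈ P) : ∃ q ∈ P, Rel Φ p q := by
  obtain ⟨χ, hχ, -, r, hr, h⟩ := S.exists_sep hp 0
  exact ⟨r, hr, χ, hχ, h⟩

theorem Sys.sSup_comps (S : Sys P Φ) : sSup S.comps = ⊤ := by
  rw [eq_top_iff, ← S.span, Submodule.span_le]
  intro p hp
  have h : S.comp hp ≤ sSup S.comps := le_sSup ⟨p, hp, rfl⟩
  exact h (S.self_mem hp)

/-- **The components are independent.** -/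
theorem Sys.sSupIndep_comps (S : Sys P Φ) : sSupIndep S.comps := by
  rintro U ⟨p, hp, rfl⟩
  rw [Submodule.disjoint_def]
  intro x hx hx2
  by_contra h0
  have hxP := S.mem_P hp hx h0
  obtain ⟨y, hy, hxy⟩ := S.exists_rel hxP
  obtain ⟨ψ, hψ, h1⟩ := S.symm hxP hy hxy
  have hyc : y ∈ S.comp hp := by
    have : y ∈ S.comp hxP := (S.mem_comp_iff hxP hy).2 (Or.inr hxy)
    exact S.comp_le hp hxP hx this
  have h2 : sSup (S.comps \ {S.comp hp}) ≤ LinearMap.ker ψ := by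
    apply sSup_le
    rintro W ⟨⟨q, hq, rfl⟩, hne⟩ w hw
    refine S.apply_comp hy hq (fun h3 => hne ?_) hψ hw
    rw [Set.mem_singleton_iff, h3, S.comp_eq hp hy hyc]
  have h3 : ψ x = 0 := h2 hx2
  rw [h3] at h1
  exact zero_ne_one h1

theorem Sys.eight_le (S : Sys P Φ) {p : V} (hp : p ∈ P) :
    3 ≤ finrank (ZMod 2) (S.comp hp) := by
  -- `Φ p` embeds in the dual of `comp p / p`
  let res : Φ p →ₗ[ZMod 2] Dual (ZMod 2) (S.comp hp) :=
    ((S.comp hp).subtype.dualMap).comp (Φ p).subtype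
  have hinj : Function.Injective res := by
    rintro ⟨φ, hφ⟩ ⟨ψ, hψ⟩ h
    apply Subtype.ext
    refine S.ext_of hp hφ hψ fun w hw => ?_
    have := LinearMap.congr_fun h ⟨w, hw⟩
    exact this
  have hne : (⟨p, S.self_mem hp⟩ : S.comp hp) ≠ 0 := by
    intro h
    have : p = 0 := congrArg Subtype.val h
    exact S.zero (this ▸ hp)
  have hlt : finrank (ZMod 2) (LinearMap.range res) < finrank (ZMod 2) (Dual (ZMod 2) (S.comp hp)) := by
    refine Submodule.finrank_lt ?_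
    intro h
    have h1 : ∀ f : Dual (ZMod 2) (S.comp hp), f ⟨p, S.self_mem hp⟩ = 0 := by
      intro f
      have : f ∈ LinearMap.range res := by rw [h]; trivial
      obtain ⟨⟨φ, hφ⟩, rfl⟩ := this
      exact S.van p hp φ hφ
    exact hne ((Module.forall_dual_apply_eq_zero_iff (ZMod 2) _).1 h1)
  rw [LinearMap.finrank_range_of_inj hinj, Subspace.dual_finrank_eq] at hlt
  have := S.two p hp
  omega

end Cfsg.Agent.Omega.Tools.MiniMcL
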