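import Cfsg.Agent.StdL3.OneParity

/-!
# Transfer and sign parities (helper389's tools; Lean by helper602)

`G` a finite group without subgroups of index 2.

* `sign`: an involution of `G` has `|Y|` mod 4 fixed points on every finite `G`-set `Y`;
  `sign_conj`: `|x^G ∩ C(t)| ≡ |G : C(x)|`; `sign_subgroup`: the same for the conjugates of a subgroup.
* `tp`: for every subgroup `P`, every `lam : P → {±1}` and every involution `y` the number of `P`-classes of
  `y^G ∩ P` with `lam = -1` and `|C_G(y') : C_P(y')|` odd is even; `exists_second`: there is a second one.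
-/

set_option autoImplicit false

namespace Cfsg.Agent.Omega.Tools.Sign

open MulAction Subgroup

variable {G : Type*} [Group G]

/-- homomorphisms to `{±1}` are trivial if there is no subgroup of index 2 -/
theorem hom_eq_one (hG : ∀ H : Subgroup G, H.index ≠ 2) (f : G →* ℤˣ) (u : G) : f u = 1 := by
  by_contra h
  have h1 : f u = -1 := (Int.units_eq_one_or _).resolve_left h
  apply hG f.ker
  have h2 : f.range = ⊤ := by
    rw [eq_top_iff]
    rintro x -
    rcases Int.units_eq_one_or x with rfl | rfl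
    · exact f.range.one_mem
    · exact ⟨u, h1⟩
  rw [Subgroup.index_ker, h2, Nat.card_congr Subgroup.topEquiv.toEquiv, Nat.card_eq_fintype_card,
    Fintype.card_units_int]

/-! ### Signs of permutations -/

/-- **(SIGN)** -/
theorem sign (hG : ∀ H : Subgroup G, H.index ≠ 2) (Y : Type*) [Finite Y] [MulAction G Y] {t : G}
    (ht : t * t = 1) : Nat.card (fixedBy Y t) ≡ Nat.card Y [MOD 4] := by
  classical
  have := Fintype.ofFinite Y
  set σ : Equiv.Perm Y := MulAction.toPermHom G Y t with hσ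
  have h2 : σ ^ 2 = 1 := by rw [hσ, ← map_pow, pow_two, ht, map_one]
  have hs : Equiv.Perm.sign σ = 1 := hom_eq_one hG (Equiv.Perm.sign.comp (MulAction.toPermHom G Y)) t
  have hc := Equiv.Perm.cycleType_of_pow_prime_eq_one (p := 2) h2
  have hsum : σ.cycleType.sum = 2 * Multiset.card σ.cycleType := by
    conv_lhs => rw [hc]
    rw [Multiset.sum_replicate, smul_eq_mul, mul_comm]
  have h3 := Equiv.Perm.card_fixedPoints σ
  have h4 := σ.sum_cycleType_le
  have h5 : Equiv.Perm.sign σ = (-1) ^ Multiset.card σ.cycleType := by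
    rw [Equiv.Perm.sign_of_cycleType', hc, Multiset.map_replicate, Multiset.prod_replicate,
      Multiset.card_replicate]
    norm_num
  rw [hs] at h5
  have h6 : Even (Multiset.card σ.cycleType) := by
    by_contra hne
    rw [Nat.not_even_iff_odd] at hne
    rw [hne.neg_one_pow] at h5
    exact absurd h5 (by decide)
  obtain ⟨k, hk⟩ := h6
  have h7 : Nat.card (fixedBy Y t) = Fintype.card (Function.fixedPoints σ) := by
    rw [← Nat.card_eq_fintype_card]
    rfl
  rw [h7, h3, Nat.card_eq_fintype_card, hsum, hk]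
  rw [hsum, hk] at h4
  exact (Nat.modEq_iff_dvd' (Nat.sub_le _ _)).2 ⟨k, by omega⟩

/-- the case of a class of elements: `|x^G ∩ C(t)| ≡ |G : C(x)|` mod 4 -/
theorem sign_conj [Finite G] (hG : ∀ H : Subgroup G, H.index ≠ 2) {t : G} (ht : t * t = 1) (x : G) :
    Nat.card {y : G // (∃ g : G, g * x * g⁻¹ = y) ∧ t * y = y * t} ≡
      (centralizer ({x} : Set G)).index [MOD 4] := by
  have h := sign hG (G ⧸ centralizer ({x} : Set G)) ht
  have e : fixedBy (G ⧸ centralizer ({x} : Set G)) t ≃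
      {y : G // (∃ g : G, g * x * g⁻¹ = y) ∧ t * y = y * t} := by
    have hw : ∀ a b : G, (QuotientGroup.leftRel (centralizer ({x} : Set G))) a b → a * x * a⁻¹ = b * x * b⁻¹ := by
      intro a b hab
      rw [QuotientGroup.leftRel_apply, mem_centralizer_singleton_iff] at hab
      calc a * x * a⁻¹ = a * (x * (a⁻¹ * b)) * b⁻¹ := by group
        _ = a * (a⁻¹ * b * x) * b⁻¹ := by rw [hab]
        _ = b * x * b⁻¹ := by group
    let φ : G ⧸ centralizer ({x} : Set G) → G := Quotient.lift (fun a => a * x * a⁻¹) hw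
    have hφ : ∀ a : G, φ (a : G ⧸ centralizer ({x} : Set G)) = a * x * a⁻¹ := fun a => rfl
    have hinj : Function.Injective φ := by
      intro p q hpq
      obtain ⟨a, rfl⟩ := QuotientGroup.mk_surjective p
      obtain ⟨b, rfl⟩ := QuotientGroup.mk_surjective q
      rw [hφ, hφ] at hpq
      rw [QuotientGroup.eq, mem_centralizer_singleton_iff]
      calc a⁻¹ * b * x = a⁻¹ * (b * x * b⁻¹) * b := by group
        _ = a⁻¹ * (a * x * a⁻¹) * b := by rw [hpq]
        _ = x * (a⁻¹ * b) := by group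
    have hact : ∀ p : G ⧸ centralizer ({x} : Set G), φ (t • p) = t * φ p * t⁻¹ := by
      intro p
      obtain ⟨a, rfl⟩ := QuotientGroup.mk_surjective p
      rw [MulAction.Quotient.smul_mk, smul_eq_mul, hφ, hφ]
      group
    refine Equiv.ofBijective (fun p => ⟨φ p.1, ?_, ?_⟩) ⟨?_, ?_⟩
    · obtain ⟨a, ha⟩ := QuotientGroup.mk_surjective p.1
      exact ⟨a, by rw [← ha, hφ]⟩
    · have h1 := hact p.1
      rw [show t • p.1 = p.1 from p.2] at h1
      calc t * φ p.1 = t * φ p.1 * t⁻¹ * t := by group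
        _ = φ p.1 * t := by rw [← h1]
    · intro p q hpq
      exact Subtype.ext (hinj (congrArg Subtype.val hpq))
    · rintro ⟨y, ⟨g, rfl⟩, hy⟩
      refine ⟨⟨(g : G ⧸ centralizer ({x} : Set G)), ?_⟩, Subtype.ext (hφ g)⟩
      apply hinj
      rw [hact, hφ, hy]
      group
  rw [Nat.card_congr e] at h
  exact h

/-! ### Transfer -/

theorem mem_of_fixed {P : Subgroup G} {y : G} (hy : y * y = 1) {g : G} (h : y • (g : G ⧸ P) = g) :
    g⁻¹ * y * g ∈ P := by
  have hyi : y⁻¹ = y := inv_eq_of_mul_eq_one_right hy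
  rw [MulAction.Quotient.smul_mk, smul_eq_mul, QuotientGroup.eq] at h
  have : (y * g)⁻¹ * g = g⁻¹ * y * g := by rw [mul_inv_rev, hyi]
  rwa [this] at h

theorem fixed_of_mem {P : Subgroup G} {y : G} (hy : y * y = 1) {g : G} (h : g⁻¹ * y * g ∈ P) :
    y • (g : G ⧸ P) = g := by
  have hyi : y⁻¹ = y := inv_eq_of_mul_eq_one_right hy
  rw [MulAction.Quotient.smul_mk, smul_eq_mul, QuotientGroup.eq]
  have : (y * g)⁻¹ * g = g⁻¹ * y * g := by rw [mul_inv_rev, hyi]
  rwa [this]

/-- the cosets `gP` fixed by `y` with `lam (g⁻¹ y g) = -1` -/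
def Neg (P : Subgroup G) (lam : P →* ℤˣ) (y : G) (q : G ⧸ P) : Prop :=
  ∃ (g : G) (h : g⁻¹ * y * g ∈ P), (g : G ⧸ P) = q ∧ lam ⟨g⁻¹ * y * g, h⟩ = -1

/-- the number of fixed cosets with sign `-1` is even -/
theorem even_neg [Finite G] (hG : ∀ H : Subgroup G, H.index ≠ 2) (P : Subgroup G) (lam : P →* ℤˣ)
    {y : G} (hy : y * y = 1) : Even (Nat.card {q : G ⧸ P // Neg P lam y q}) := by
  classical
  have := Fintype.ofFinite (G ⧸ P)
  obtain ⟨f, hf, hprod⟩ := StdL3.OneParity.transfer_eq_prod_fixed P lam y hy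
  rw [hom_eq_one hG] at hprod
  set s := Finset.univ.filter (fun q : G ⧸ P => y • q = q) with hs
  have h1 : ∏ q ∈ s, f q = (-1) ^ (s.filter (fun q => f q = -1)).card := by
    rw [← Finset.prod_filter_mul_prod_filter_not s (fun q => f q = -1),
      Finset.prod_congr rfl (fun q hq => (Finset.mem_filter.1 hq).2), Finset.prod_const,
      Finset.prod_eq_one (s := s.filter (fun q => ¬ f q = -1))
        (fun q hq => (Int.units_eq_one_or _).resolve_right (Finset.mem_filter.1 hq).2), mul_one]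
  have h2 : Nat.card {q : G ⧸ P // Neg P lam y q} = (s.filter (fun q => f q = -1)).card := by
    rw [Nat.subtype_card]
    intro q
    rw [Finset.mem_filter, hs, Finset.mem_filter]
    constructor
    · rintro ⟨⟨-, h3⟩, h4⟩
      obtain ⟨g, rfl⟩ := QuotientGroup.mk_surjective q
      have hm := mem_of_fixed hy h3
      exact ⟨g, hm, rfl, by rw [← hf _ g rfl hm]; exact h4⟩
    · rintro ⟨g, hm, rfl, h4⟩
      exact ⟨⟨Finset.mem_univ _, fixed_of_mem hy hm⟩, by rw [hf _ g rfl hm]; exact h4⟩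
  rw [h2]
  by_contra hne
  rw [Nat.not_even_iff_odd] at hne
  rw [h1, hne.neg_one_pow] at hprod
  exact absurd hprod (by decide)

/-- the number of cosets `gP` with `g⁻¹ y g` in the `P`-class of `y' = g₀⁻¹ y g₀` -/
theorem card_fiber (P : Subgroup G) (y g₀ : G) :
    Nat.card {q : G ⧸ P // ∃ g : G, (g : G ⧸ P) = q ∧ ∃ p ∈ P, g⁻¹ * y * g = p⁻¹ * (g₀⁻¹ * y * g₀) * p} =
      P.relIndex (centralizer ({g₀⁻¹ * y * g₀} : Set G)) := by
  set y' := g₀⁻¹ * y * g₀ with hy'
  set C := centralizer ({y'} : Set G) with hC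
  have hw : ∀ a b : C, (QuotientGroup.leftRel (P.subgroupOf C)) a b →
      ((g₀ * a : G) : G ⧸ P) = ((g₀ * b : G) : G ⧸ P) := by
    intro a b hab
    rw [QuotientGroup.leftRel_apply, mem_subgroupOf] at hab
    rw [QuotientGroup.eq]
    have : (g₀ * (a : G))⁻¹ * (g₀ * b) = ((a⁻¹ * b : C) : G) := by
      rw [Subgroup.coe_mul, Subgroup.coe_inv]; group
    rw [this]; exact hab
  let φ : C ⧸ P.subgroupOf C → G ⧸ P := Quotient.lift (fun a : C => ((g₀ * a : G) : G ⧸ P)) hw
  have hφ : ∀ a : C, φ (a : C ⧸ P.subgroupOf C) = ((g₀ * a : G) : G ⧸ P) := fun a => rfl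
  have hinj : Function.Injective φ := by
    intro p q hpq
    obtain ⟨a, rfl⟩ := QuotientGroup.mk_surjective p
    obtain ⟨b, rfl⟩ := QuotientGroup.mk_surjective q
    rw [hφ, hφ, QuotientGroup.eq] at hpq
    rw [QuotientGroup.eq, mem_subgroupOf]
    have : (g₀ * (a : G))⁻¹ * (g₀ * b) = ((a⁻¹ * b : C) : G) := by
      rw [Subgroup.coe_mul, Subgroup.coe_inv]; group
    rwa [this] at hpq
  have hconj : ∀ a : C, (g₀ * (a : G))⁻¹ * y * (g₀ * a) = y' := by
    intro a
    have ha := mem_centralizer_singleton_iff.1 a.2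
    calc (g₀ * (a : G))⁻¹ * y * (g₀ * a) = (a : G)⁻¹ * (y' * a) := by rw [hy']; group
      _ = (a : G)⁻¹ * (a * y') := by rw [← ha]
      _ = y' := by group
  have hmem : ∀ p : C ⧸ P.subgroupOf C,
      ∃ g : G, (g : G ⧸ P) = φ p ∧ ∃ p ∈ P, g⁻¹ * y * g = p⁻¹ * y' * p := by
    intro p
    obtain ⟨a, rfl⟩ := QuotientGroup.mk_surjective p
    exact ⟨g₀ * a, (hφ a).symm, 1, P.one_mem, by rw [hconj]; group⟩
  rw [Subgroup.relIndex, Subgroup.index]
  refine (Nat.card_congr (Equiv.ofBijective (fun p => ⟨φ p, hmem p⟩) ⟨?_, ?_⟩)).symm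
  · intro p q hpq
    exact hinj (congrArg Subtype.val hpq)
  · rintro ⟨q, g, rfl, p, hp, h⟩
    have hc : g₀⁻¹ * g * p⁻¹ ∈ C := by
      rw [hC, mem_centralizer_singleton_iff]
      calc g₀⁻¹ * g * p⁻¹ * y' = g₀⁻¹ * g * (p⁻¹ * y' * p) * p⁻¹ := by group
        _ = g₀⁻¹ * g * (g⁻¹ * y * g) * p⁻¹ := by rw [h]
        _ = y' * (g₀⁻¹ * g * p⁻¹) := by rw [hy']; group
    refine ⟨((⟨_, hc⟩ : C) : C ⧸ P.subgroupOf C), Subtype.ext ?_⟩
    show ((g₀ * (g₀⁻¹ * g * p⁻¹) : G) : G ⧸ P) = g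
    rw [QuotientGroup.eq]
    have : (g₀ * (g₀⁻¹ * g * p⁻¹))⁻¹ * g = p := by group
    rw [this]; exact hp

/-- the `P`-classes counted by the transfer parity -/
def Ext (P : Subgroup G) (lam : P →* ℤˣ) (y : G) (c : ConjClasses P) : Prop :=
  ∃ p : P, ConjClasses.mk p = c ∧ lam p = -1 ∧ (∃ g : G, g⁻¹ * y * g = p) ∧
    Odd (P.relIndex (centralizer ({(p : G)} : Set G)))

/-- **(TP)** -/
theorem tp [Finite G] (hG : ∀ H : Subgroup G, H.index ≠ 2) (P : Subgroup G) (lam : P →* ℤˣ)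
    {y : G} (hy : y * y = 1) : Even (Nat.card {c : ConjClasses P // Ext P lam y c}) := by
  classical
  have := Fintype.ofFinite (G ⧸ P)
  have : Finite (ConjClasses P) := Finite.of_surjective _ ConjClasses.mk_surjective
  have := Fintype.ofFinite (ConjClasses P)
  have hE := even_neg hG P lam hy
  -- the class of a coset
  have hex : ∀ q : {q : G ⧸ P // Neg P lam y q}, ∃ c : ConjClasses P, ∀ (g : G) (h : g⁻¹ * y * g ∈ P),
      (g : G ⧸ P) = q.1 → ConjClasses.mk (⟨g⁻¹ * y * g, h⟩ : P) = c := by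
    rintro ⟨q, g, h, rfl, -⟩
    refine ⟨ConjClasses.mk ⟨g⁻¹ * y * g, h⟩, fun g' h' hg' => ?_⟩
    rw [ConjClasses.mk_eq_mk_iff_isConj, isConj_iff]
    have hm : g⁻¹ * g' ∈ P := QuotientGroup.eq.1 hg'.symm
    refine ⟨⟨g⁻¹ * g', hm⟩, Subtype.ext ?_⟩
    simp only [Subgroup.coe_mul, Subgroup.coe_inv]
    group
  choose cl hcl using hex
  have hsum : Nat.card {q : G ⧸ P // Neg P lam y q} =
      ∑ c : ConjClasses P, Nat.card {q : {q : G ⧸ P // Neg P lam y q} // cl q = c} := by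
    rw [← Nat.card_sigma]
    exact Nat.card_congr (Equiv.sigmaFiberEquiv cl).symm
  rw [hsum, Finset.even_sum_iff_even_card_odd] at hE
  rw [Nat.subtype_card (Finset.univ.filter
    (fun c : ConjClasses P => Odd (Nat.card {q : {q : G ⧸ P // Neg P lam y q} // cl q = c})))]
  · exact hE
  intro c
  rw [Finset.mem_filter]
  -- fibres
  have hfib : ∀ (g₀ : G) (h₀ : g₀⁻¹ * y * g₀ ∈ P), lam ⟨g₀⁻¹ * y * g₀, h₀⟩ = -1 →
      ConjClasses.mk (⟨g₀⁻¹ * y * g₀, h₀⟩ : P) = c →
      Nat.card {q : {q : G ⧸ P // Neg P lam y q} // cl q = c} =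
        P.relIndex (centralizer ({g₀⁻¹ * y * g₀} : Set G)) := by
    intro g₀ h₀ hl₀ hc₀
    rw [← card_fiber]
    refine Nat.card_congr ⟨fun q => ⟨q.1.1, ?_⟩, fun q => ⟨⟨q.1, ?_⟩, ?_⟩, fun q => rfl, fun q => rfl⟩
    · obtain ⟨⟨q, g, h, rfl, hl⟩, hq⟩ := q
      rw [← hcl _ g h rfl, ← hc₀, ConjClasses.mk_eq_mk_iff_isConj, isConj_comm, isConj_iff] at hq
      obtain ⟨p, hp⟩ := hq
      refine ⟨g, rfl, (p : G)⁻¹, P.inv_mem p.2, ?_⟩
      have := congrArg Subtype.val hp
      simp only [Subgroup.coe_mul, Subgroup.coe_inv] at this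
      rw [inv_inv]; exact this.symm
    · obtain ⟨q, g, rfl, p, hp, h⟩ := q
      have hm : g⁻¹ * y * g ∈ P := by
        rw [h]; exact P.mul_mem (P.mul_mem (P.inv_mem hp) h₀) hp
      refine ⟨g, hm, rfl, ?_⟩
      have e : (⟨g⁻¹ * y * g, hm⟩ : P) = (⟨p, hp⟩ : P)⁻¹ * ⟨g₀⁻¹ * y * g₀, h₀⟩ * ⟨p, hp⟩ :=
        Subtype.ext h
      rw [e, map_mul, map_mul, map_inv, hl₀, mul_comm (lam ⟨p, hp⟩)⁻¹, mul_assoc, inv_mul_cancel, mul_one]
    · obtain ⟨q, g, rfl, p, hp, h⟩ := q
      have hm : g⁻¹ * y * g ∈ P := by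
        rw [h]; exact P.mul_mem (P.mul_mem (P.inv_mem hp) h₀) hp
      rw [← hcl _ g hm rfl, ← hc₀, ConjClasses.mk_eq_mk_iff_isConj, isConj_iff]
      refine ⟨⟨p, hp⟩, Subtype.ext ?_⟩
      simp only [Subgroup.coe_mul, Subgroup.coe_inv]
      rw [h]; group
  constructor
  · rintro ⟨-, hodd⟩
    have hne : Nonempty {q : {q : G ⧸ P // Neg P lam y q} // cl q = c} := by
      by_contra hemp
      rw [not_nonempty_iff] at hemp
      rw [Nat.card_of_isEmpty] at hodd
      exact absurd hodd (by decide)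
    obtain ⟨⟨⟨q, g, h, rfl, hl⟩, hq⟩⟩ := hne
    have hc : ConjClasses.mk (⟨g⁻¹ * y * g, h⟩ : P) = c := by rw [← hq]; exact hcl _ g h rfl
    refine ⟨⟨g⁻¹ * y * g, h⟩, hc, hl, ⟨g, rfl⟩, ?_⟩
    rw [hfib g h hl hc] at hodd
    exact hodd
  · rintro ⟨⟨p, hpP⟩, hc, hl, ⟨g, hg⟩, hodd⟩
    subst hg
    exact ⟨Finset.mem_univ _, by rw [hfib g hpP hl hc]; exact hodd⟩

/-- **(TP)**: a counted class has a companion. -/
theorem exists_second [Finite G] (hG : ∀ H : Subgroup G, H.index ≠ 2) (P : Subgroup G) (lam : P →* ℤˣ)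
    {y : P} (hy : y * y = 1) (hl : lam y = -1) (hodd : Odd (P.relIndex (centralizer ({(y : G)} : Set G)))) :
    ∃ p : P, lam p = -1 ∧ (∃ g : G, g * y * g⁻¹ = p) ∧
      Odd (P.relIndex (centralizer ({(p : G)} : Set G))) ∧ ¬ ∃ x : P, x * y * x⁻¹ = p := by
  classical
  have hy' : (y : G) * y = 1 := congrArg Subtype.val hy
  have h := tp hG P lam hy'
  have h0 : Ext P lam (y : G) (ConjClasses.mk y) := ⟨y, rfl, hl, ⟨1, by group⟩, hodd⟩
  have : Finite (ConjClasses P) := Finite.of_surjective _ ConjClasses.mk_surjective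
  have h1 : 1 < Nat.card {c : ConjClasses P // Ext P lam (y : G) c} := by
    have hpos : 0 < Nat.card {c : ConjClasses P // Ext P lam (y : G) c} :=
      Nat.card_pos_iff.2 ⟨⟨⟨_, h0⟩⟩, inferInstance⟩
    rcases h with ⟨k, hk⟩
    omega
  rw [Finite.one_lt_card_iff_nontrivial] at h1
  obtain ⟨⟨c, p, hpc, hpl, ⟨g, hg⟩, hpo⟩, hne⟩ := exists_ne (⟨_, h0⟩ : {c : ConjClasses P // Ext P lam (y : G) c})
  refine ⟨p, hpl, ⟨g⁻¹, by rw [inv_inv]; exact hg⟩, hpo, ?_⟩
  intro hx
  apply hne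
  apply Subtype.ext
  show c = ConjClasses.mk y
  rw [← hpc, ConjClasses.mk_eq_mk_iff_isConj, isConj_comm, isConj_iff]
  exact hx

/-! ### Extremal elements -/

theorem card_inf_eq [Finite G] (P C : Subgroup G) : P.relIndex C * Nat.card ↥(P ⊓ C) = Nat.card C := by
  have h := (P.subgroupOf C).card_mul_index
  have e : Nat.card ↥(P.subgroupOf C) = Nat.card ↥(P ⊓ C) := by
    rw [← Subgroup.inf_subgroupOf_right, Nat.card_congr (Subgroup.subgroupOfEquivOfLe inf_le_right).toEquiv]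
  rw [← h, e, mul_comm]
  rfl

/-- a 2-subgroup of odd relative index in `C` is at least as large as every 2-subgroup of `C` -/
theorem card_le_of_odd [Finite G] {P C R : Subgroup G} (hodd : Odd (P.relIndex C)) (hR : IsPGroup 2 R)
    (hRC : R ≤ C) : Nat.card R ≤ Nat.card ↥(P ⊓ C) := by
  have h1 : Nat.card R ∣ P.relIndex C * Nat.card ↥(P ⊓ C) := by
    rw [card_inf_eq]; exact Subgroup.card_dvd_of_le hRC
  obtain ⟨k, hk⟩ := IsPGroup.iff_card.1 hR
  rw [hk] at h1 ⊢
  have h2 : Nat.Coprime (2 ^ k) (P.relIndex C) :=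
    Nat.Coprime.pow_left k (Nat.coprime_two_left.2 hodd)
  exact Nat.le_of_dvd Nat.card_pos (h2.dvd_of_dvd_mul_left h1)

/-- `|C_G(p) : C_S(p)|` is odd iff `p` is extremal in the Sylow subgroup `S`. -/
theorem odd_iff_extremal [Finite G] (S : Sylow 2 G) {p : G} (hp : p ∈ S) :
    Odd ((S : Subgroup G).relIndex (centralizer ({p} : Set G))) ↔
      ∀ g : G, g * p * g⁻¹ ∈ S → Nat.card ↥((S : Subgroup G) ⊓ centralizer ({g * p * g⁻¹} : Set G)) ≤
        Nat.card ↥((S : Subgroup G) ⊓ centralizer ({p} : Set G)) := by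
  constructor
  · intro hodd g _
    set D := (S : Subgroup G) ⊓ centralizer ({g * p * g⁻¹} : Set G) with hD
    have hD2 : IsPGroup 2 D := S.isPGroup'.to_le inf_le_left
    let R := D.map (MulAut.conj g⁻¹).toMonoidHom
    have hR : IsPGroup 2 R := hD2.map _
    have hRC : R ≤ centralizer ({p} : Set G) := by
      rintro _ ⟨d, hd, rfl⟩
      have h1 := mem_centralizer_singleton_iff.1 hd.2
      rw [mem_centralizer_singleton_iff]
      simp only [MulEquiv.coe_toMonoidHom, MulAut.conj_apply, inv_inv]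
      calc g⁻¹ * d * g * p = g⁻¹ * (d * (g * p * g⁻¹)) * g := by group
        _ = g⁻¹ * (g * p * g⁻¹ * d) * g := by rw [h1]
        _ = p * (g⁻¹ * d * g) := by group
    have h2 := card_le_of_odd hodd hR hRC
    have h3 : Nat.card R = Nat.card D :=
      Nat.card_congr (Subgroup.equivMapOfInjective D _ (MulAut.conj g⁻¹).injective).symm.toEquiv
    rwa [h3] at h2
  · intro hext
    set C := centralizer ({p} : Set G) with hC
    obtain ⟨R⟩ : Nonempty (Sylow 2 C) := inferInstance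
    let R' : Subgroup G := (R : Subgroup C).map C.subtype
    have hR' : IsPGroup 2 R' := R.isPGroup'.map _
    obtain ⟨Q, hQ⟩ := hR'.exists_le_sylow
    obtain ⟨x, hx⟩ := MulAction.exists_smul_eq G Q S
    -- `p ∈ R`
    have hpC : p ∈ C := mem_centralizer_singleton_iff.2 rfl
    have hpR : p ∈ R' := by
      have hz : IsPGroup 2 (zpowers (⟨p, hpC⟩ : C)) := by
        have h1 : IsPGroup 2 (zpowers p) := S.isPGroup'.to_le (zpowers_le.2 hp)
        have h2 : (zpowers (⟨p, hpC⟩ : C)).map C.subtype = zpowers p := by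
          rw [MonoidHom.map_zpowers]; rfl
        have h3 : IsPGroup 2 ((zpowers (⟨p, hpC⟩ : C)).map C.subtype) := by rw [h2]; exact h1
        exact h3.of_equiv (Subgroup.equivMapOfInjective _ _ C.subtype_injective).symm
      have hn : (zpowers (⟨p, hpC⟩ : C)).Normal := by
        refine ⟨?_⟩
        rintro _ ⟨k, rfl⟩ c
        refine ⟨k, ?_⟩
        have hcp : c * (⟨p, hpC⟩ : C) = ⟨p, hpC⟩ * c :=
          Subtype.ext (mem_centralizer_singleton_iff.1 c.2)
        have hcomm : Commute c ((⟨p, hpC⟩ : C) ^ k) := (show Commute c (⟨p, hpC⟩ : C) from hcp).zpow_right k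
        show (⟨p, hpC⟩ : C) ^ k = c * (⟨p, hpC⟩ : C) ^ k * c⁻¹
        rw [hcomm.eq, mul_inv_cancel_right]
      have hle := hz.le_sylow_of_normal R
      exact ⟨⟨p, hpC⟩, hle (mem_zpowers _), rfl⟩
    have hxS : ∀ r ∈ R', x * r * x⁻¹ ∈ S := by
      intro r hr
      rw [← hx]
      exact ⟨r, hQ hr, rfl⟩
    have h1 := hext x (hxS p hpR)
    have h2 : Nat.card R' ≤ Nat.card ↥((S : Subgroup G) ⊓ centralizer ({x * p * x⁻¹} : Set G)) := by
      have h3 : R'.map (MulAut.conj x).toMonoidHom ≤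
          (S : Subgroup G) ⊓ centralizer ({x * p * x⁻¹} : Set G) := by
        rintro _ ⟨r, hr, rfl⟩
        refine ⟨hxS r hr, ?_⟩
        obtain ⟨c, -, rfl⟩ := hr
        have h4 := mem_centralizer_singleton_iff.1 c.2
        refine mem_centralizer_singleton_iff.2 ?_
        simp only [MulEquiv.coe_toMonoidHom, MulAut.conj_apply, Subgroup.coe_subtype]
        calc x * (c : G) * x⁻¹ * (x * p * x⁻¹) = x * ((c : G) * p) * x⁻¹ := by group
          _ = x * (p * c) * x⁻¹ := by rw [h4]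
          _ = x * p * x⁻¹ * (x * c * x⁻¹) := by group
      have h5 := Subgroup.card_le_of_le h3
      rwa [Nat.card_congr (Subgroup.equivMapOfInjective R' _ (MulAut.conj x).injective).symm.toEquiv] at h5
    have h6 : Nat.card R' = Nat.card (R : Subgroup C) :=
      Nat.card_congr (Subgroup.equivMapOfInjective _ _ C.subtype_injective).symm.toEquiv
    -- index
    have h7 : Nat.card (R : Subgroup C) * (R : Subgroup C).index = Nat.card C := Subgroup.card_mul_index _
    have h8 : ¬ 2 ∣ (R : Subgroup C).index := R.not_dvd_index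
    have hSC : Nat.card ↥((S : Subgroup G) ⊓ C) ∣ Nat.card (R : Subgroup C) := by
      have h9 : IsPGroup 2 ↥((S : Subgroup G) ⊓ C) := S.isPGroup'.to_le inf_le_left
      obtain ⟨k, hk⟩ := IsPGroup.iff_card.1 h9
      have h10 : 2 ^ k ∣ Nat.card C := hk ▸ Subgroup.card_dvd_of_le inf_le_right
      rw [hk]
      rw [← h7] at h10
      exact (Nat.Coprime.pow_left k ((Nat.Prime.coprime_iff_not_dvd Nat.prime_two).2 h8)).dvd_of_dvd_mul_right
        h10
    have heq : Nat.card (R : Subgroup C) = Nat.card ↥((S : Subgroup G) ⊓ C) :=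
      le_antisymm (h6 ▸ h2.trans h1) (Nat.le_of_dvd Nat.card_pos hSC)
    have h11 := card_inf_eq (S : Subgroup G) C
    rw [← heq, ← h7, mul_comm] at h11
    have h12 := Nat.eq_of_mul_eq_mul_left Nat.card_pos h11
    rw [h12]
    rwa [← Nat.not_even_iff_odd, even_iff_two_dvd]

end Cfsg.Agent.Omega.Tools.Sign
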