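import Cfsg.Agent.MinSimple.Geo
import Cfsg.Agent.MinSimple.Basic
import Cfsg.Prelude.Def_Involutions

/-!
# THEOREM SE (helper999): a fusion criterion for strong embedding in characteristic 2 type

`S` a Sylow 2-subgroup of `G`, `z` an involution of `Z(S)`, `C_G(z) ≤ Y < G` and `z^G ∩ Y = z^Y`. If
`C_{C(t)}(O₂(C(t))) ≤ O₂(C(t))` for all involutions `t` then `Y` is strongly embedded. Steps:

* `cj_eq_of_comm`: commuting conjugates `z^g`, `z^h` have `Y^g = Y^h`;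
* `cj_eq_of_o2`: `O₂(C(t)) ≤ S^g ∩ S^h` implies `Y^g = Y^h`;
* `exists_o2`: `t ∈ Y^h` implies `Y^h = Y^k` for some `k` with `O₂(C(t)) ≤ S^k`.
-/

set_option autoImplicit false

namespace Cfsg.Agent.Omega.Tools.StrEmb

open Subgroup Cfsg Cfsg.Agent.ZN Cfsg.Agent.MinSimple.Geo Cfsg.Agent.MinSimple.Basic

universe u

variable {G : Type u} [Group G]

/-- the hypotheses of THEOREM SE -/
structure Dat (S Y : Subgroup G) (z : G) : Prop where
  char2 : ∀ t : G, t ^ 2 = 1 → t ≠ 1 →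
    centralizer ({t} : Set G) ⊓ centralizer (o2 (centralizer ({t} : Set G)) : Set G) ≤
      o2 (centralizer ({t} : Set G))
  syl : ∀ U : Subgroup G, IsPGroup 2 U → ∃ g : G, U ≤ cj g S
  syl' : ∀ U W : Subgroup G, IsPGroup 2 U → U ≤ W → (∃ g, cj g S ≤ W) → ∃ g : G, U ≤ cj g S ∧ cj g S ≤ W
  z_sq : z ^ 2 = 1
  z_ne : z ≠ 1
  z_mem_S : z ∈ S
  z_cent : S ≤ centralizer ({z} : Set G)
  le : centralizer ({z} : Set G) ≤ Y
  fus : ∀ g : G, g * z * g⁻¹ ∈ Y → ∃ y ∈ Y, g * z * g⁻¹ = y * z * y⁻¹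

namespace Dat

variable {S Y : Subgroup G} {z : G}

theorem z_mem (h : Dat S Y z) : z ∈ Y := h.le (mem_centralizer_singleton_iff.mpr rfl)

theorem mem_of_fus (h : Dat S Y z) {k : G} (hk : k * z * k⁻¹ ∈ Y) : k ∈ Y := by
  obtain ⟨y, hy, e⟩ := h.fus k hk
  have h1 : y⁻¹ * k ∈ centralizer ({z} : Set G) := by
    rw [mem_centralizer_singleton_iff]
    calc y⁻¹ * k * z = y⁻¹ * (k * z * k⁻¹) * k := by group
      _ = y⁻¹ * (y * z * y⁻¹) * k := by rw [e]
      _ = z * (y⁻¹ * k) := by group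
  have h2 := mul_mem hy (h.le h1)
  rwa [mul_inv_cancel_left] at h2

theorem cj_eq_self_of_mem {k : G} (hk : k ∈ Y) : cj k Y = Y :=
  cj_eq_of_mem_normalizer (le_normalizer hk)

theorem normalizer_le (h : Dat S Y z) : normalizer (Y : Set G) ≤ Y := fun _ hg =>
  h.mem_of_fus ((mem_normalizer_iff.mp hg z).mp h.z_mem)

/-- (0) `z^m ∈ Y^h` implies `Y^m = Y^h` -/
theorem cj_eq_of_mem (h : Dat S Y z) {g m : G} (hm : m * z * m⁻¹ ∈ cj g Y) : cj m Y = cj g Y := by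
  rw [mem_cj] at hm
  have e : g⁻¹ * (m * z * m⁻¹) * g = (g⁻¹ * m) * z * (g⁻¹ * m)⁻¹ := by group
  rw [e] at hm
  have h1 := cj_eq_self_of_mem (h.mem_of_fus hm)
  calc cj m Y = cj g (cj (g⁻¹ * m) Y) := by rw [cj_cj, mul_inv_cancel_left]
    _ = cj g Y := by rw [h1]

/-- `C(z^g) ≤ Y^g` -/
theorem centralizer_le (h : Dat S Y z) (g : G) : centralizer ({g * z * g⁻¹} : Set G) ≤ cj g Y := by
  rw [← cj_centralizer_singleton]
  exact cj_mono h.le

/-- (1) -/
theorem cj_eq_of_comm (h : Dat S Y z) {g m : G}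
    (hc : m * z * m⁻¹ * (g * z * g⁻¹) = g * z * g⁻¹ * (m * z * m⁻¹)) : cj m Y = cj g Y :=
  h.cj_eq_of_mem (h.centralizer_le g (mem_centralizer_singleton_iff.mpr hc))

/-- `z^g` centralizes `S^g` -/
theorem comm_of_mem_cj (h : Dat S Y z) {g s : G} (hs : s ∈ cj g S) :
    g * z * g⁻¹ * s = s * (g * z * g⁻¹) := by
  rw [mem_cj] at hs
  have h1 := mem_centralizer_singleton_iff.mp (h.z_cent hs)
  calc g * z * g⁻¹ * s = g * (z * (g⁻¹ * s * g)) * g⁻¹ := by group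
    _ = g * (g⁻¹ * s * g * z) * g⁻¹ := by rw [h1]
    _ = s * (g * z * g⁻¹) := by group

/-- (2) -/
theorem cj_eq_of_o2 (h : Dat S Y z) {t g m : G} (ht : t ^ 2 = 1) (ht1 : t ≠ 1)
    (hg : o2 (centralizer ({t} : Set G)) ≤ cj g S) (hm : o2 (centralizer ({t} : Set G)) ≤ cj m S)
    (htm : t ∈ cj m S) : cj m Y = cj g Y := by
  have h1 : m * z * m⁻¹ ∈ o2 (centralizer ({t} : Set G)) := by
    refine h.char2 t ht ht1 ⟨mem_centralizer_singleton_iff.mpr (h.comm_of_mem_cj htm), ?_⟩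
    exact mem_centralizer_iff.mpr fun s hs => (h.comm_of_mem_cj (hm hs)).symm
  exact h.cj_eq_of_comm (h.comm_of_mem_cj (hg h1)).symm

/-- an involution lies in `O₂` of its centralizer -/
theorem mem_o2_centralizer {t : G} (ht : t ^ 2 = 1) : t ∈ o2 (centralizer ({t} : Set G)) := by
  have h1 : zpowers t ≤ o2 (centralizer ({t} : Set G)) := by
    refine le_o2 ?_ (isPGroup_zpowers ht) ?_
    · rw [zpowers_le]; exact mem_centralizer_singleton_iff.mpr rfl
    · rw [normalizer_zpowers_eq ht]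
  exact h1 (mem_zpowers t)

/-- (3) -/
theorem exists_o2 (h : Dat S Y z) {t g : G} (ht : t ^ 2 = 1) (htg : t ∈ cj g Y) :
    ∃ k : G, o2 (centralizer ({t} : Set G)) ≤ cj k S ∧ cj k Y = cj g Y := by
  obtain ⟨m, hm1, hm2⟩ := h.syl' (zpowers t) (cj g Y) (isPGroup_zpowers ht)
    (by rwa [zpowers_le]) ⟨g, cj_mono (h.z_cent.trans h.le)⟩
  have htm : t ∈ cj m S := hm1 (mem_zpowers t)
  have hSy : cj m Y = cj g Y := h.cj_eq_of_mem (hm2 (conj_mem_cj h.z_mem_S))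
  set r := m * z * m⁻¹ with hr
  have hrt : r * t = t * r := h.comm_of_mem_cj htm
  have hr2 : r ^ 2 = 1 := by
    rw [hr, conj_pow, h.z_sq]; group
  -- `⟨O₂(C(t)), r⟩` is a 2-group
  have hrn : zpowers r ≤ normalizer (o2 (centralizer ({t} : Set G)) : Set G) := by
    rw [zpowers_le]
    exact le_normalizer_o2 _ (mem_centralizer_singleton_iff.mpr hrt)
  have h2 : IsPGroup 2 (zpowers r ⊔ o2 (centralizer ({t} : Set G)) : Subgroup G) :=
    IsPGroup.to_sup_of_normal_right' (isPGroup_zpowers hr2) (Cfsg.Agent.ZN.Block.o2_isPGroup _) hrn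
  obtain ⟨k, hk⟩ := h.syl _ h2
  refine ⟨k, le_sup_right.trans hk, ?_⟩
  have hrk : r ∈ cj k S := hk (le_sup_left (a := zpowers r) (mem_zpowers r))
  rw [← hSy]
  exact h.cj_eq_of_comm (h.comm_of_mem_cj hrk)

/-- an involution lies in at most one conjugate of `Y` -/
theorem cj_eq (h : Dat S Y z) {t g m : G} (ht : t ^ 2 = 1) (ht1 : t ≠ 1) (hg : t ∈ cj g Y)
    (hm : t ∈ cj m Y) : cj g Y = cj m Y := by
  obtain ⟨k, hk1, hk2⟩ := h.exists_o2 ht hg
  obtain ⟨l, hl1, hl2⟩ := h.exists_o2 ht hm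
  rw [← hk2, ← hl2]
  exact h.cj_eq_of_o2 ht ht1 hl1 hk1 (hk1 (mem_o2_centralizer ht))

theorem isStronglyEmbedded [Finite G] (h : Dat S Y z) (hY : Y ≠ ⊤) : IsStronglyEmbedded Y := by
  refine ⟨hY, ?_, fun g hg => ?_⟩
  · have h1 : Even (Nat.card (zpowers z)) := by
      rw [Nat.card_zpowers, orderOf_eq_prime h.z_sq h.z_ne]
      exact even_two
    exact h1.trans_dvd (card_dvd_of_le (zpowers_le.mpr h.z_mem))
  · by_contra hodd
    rw [Nat.not_odd_iff_even] at hodd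
    obtain ⟨⟨t, ht⟩, ht2⟩ := exists_prime_orderOf_dvd_card' 2 hodd.two_dvd
    have ht' : orderOf t = 2 := by rw [← ht2, Subgroup.orderOf_mk]
    have e2 : t ^ 2 = 1 := by rw [← ht']; exact pow_orderOf_eq_one t
    have e1 : t ≠ 1 := fun e => by rw [e, orderOf_one] at ht'; omega
    have h2 : cj g Y = cj 1 Y := h.cj_eq e2 e1 ht.2 (by rw [cj_one]; exact ht.1)
    rw [cj_one] at h2
    exact hg (h.normalizer_le (mem_normalizer_iff_cj.mpr h2))

end Dat

/-- **THEOREM SE.** -/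
theorem isStronglyEmbedded [Finite G] (hG : IsCharacteristicTwoType G) (S : Sylow 2 G) {z : G}
    (hz : z ^ 2 = 1) (hz1 : z ≠ 1) (hzS : (S : Subgroup G) ≤ centralizer ({z} : Set G))
    {Y : Subgroup G} (hY : Y ≠ ⊤) (hC : centralizer ({z} : Set G) ≤ Y)
    (hf : ∀ g : G, g * z * g⁻¹ ∈ Y → ∃ y ∈ Y, g * z * g⁻¹ = y * z * y⁻¹) :
    IsStronglyEmbedded Y := by
  have hzm : z ∈ (S : Subgroup G) := by
    have h1 : IsPGroup 2 ((S : Subgroup G) ⊔ zpowers z : Subgroup G) := by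
      refine IsPGroup.to_sup_of_normal_right' S.isPGroup' (isPGroup_zpowers hz) ?_
      rw [normalizer_zpowers_eq hz]
      exact hzS
    have h2 := S.is_maximal' h1 le_sup_left
    rw [← h2]
    exact le_sup_right (a := (S : Subgroup G)) (mem_zpowers z)
  have hcj : ∀ (g : G), ((g • S : Sylow 2 G) : Subgroup G) = cj g (S : Subgroup G) := fun g => rfl
  refine Dat.isStronglyEmbedded (S := (S : Subgroup G)) (z := z) ⟨fun t ht ht1 => char2_centralizer hG ht ht1,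
    fun U hU => ?_, fun U W hU hUW hW => ?_, hz, hz1, hzm, hzS, hC, hf⟩ hY
  · obtain ⟨T, hT⟩ := hU.exists_le_sylow
    obtain ⟨g, hg⟩ := MulAction.exists_smul_eq G S T
    exact ⟨g, by rw [← hcj, hg]; exact hT⟩
  · obtain ⟨g₀, hg₀⟩ := hW
    have hU' : IsPGroup 2 (U.subgroupOf W) := hU.comap_subtype
    obtain ⟨T, hT⟩ := hU'.exists_le_sylow
    let T₀ : Sylow 2 W := (g₀ • S).subtype (by rw [hcj]; exact hg₀)
    obtain ⟨w, hw⟩ := MulAction.exists_smul_eq W T₀ T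
    refine ⟨(w : G) * g₀, ?_, ?_⟩
    · intro u hu
      have h1 : (⟨u, hUW hu⟩ : W) ∈ (T : Subgroup W) := hT (mem_subgroupOf.mpr hu)
      rw [← hw] at h1
      have h2 : (w⁻¹ * ⟨u, hUW hu⟩ * w : W) ∈ (T₀ : Subgroup W) := by
        have h3 : (⟨u, hUW hu⟩ : W) ∈ (cj w (T₀ : Subgroup W)) := h1
        rwa [mem_cj] at h3
      have h4 : (w : G)⁻¹ * u * w ∈ cj g₀ (S : Subgroup G) := by
        have := mem_subgroupOf.mp h2
        exact this
      rw [mem_cj] at h4 ⊢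
      convert h4 using 1
      group
    · intro x hx
      rw [mem_cj] at hx
      have h1 : (w : G)⁻¹ * x * w ∈ cj g₀ (S : Subgroup G) := by
        rw [mem_cj]
        convert hx using 1
        group
      have h2 := mul_mem (mul_mem w.2 (hg₀ h1)) (inv_mem w.2)
      convert h2 using 1
      group

end Cfsg.Agent.Omega.Tools.StrEmb
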