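import Mathlib.GroupTheory.Nilpotent
import Mathlib.GroupTheory.SemidirectProduct
import Mathlib.GroupTheory.Sylow

/-!
# The unit lemma (helper4's #11361 (U))

* `eq_one_of_op`: `P` a `p`-group acting on a finite abelian `p`-group `N`, `l` a list of elements of `P` of length
  prime to `p`: the operator `x ↦ ∏_{g ∈ l} g x` is injective.
* `unit_lemma`: `p = 2`, `N` elementary abelian, `e` fixed by `P` and the product of an odd number of `P`-conjugates
  of `e₀`: then `e₀ = e`.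
* `not_quadratic`: `X` acts on `Δ` and on `N`, `e : Δ → N` equivariant and injective, `a`, `b ∈ X`,
  `a ν ≠ ν`, and `b ν`, `b a ν` conjugate to `a ν` under a 2-subgroup of the stabiliser of `ν`: then
  `e(ν) e(aν) e(bν) e(baν) ≠ 1`, in particular `⟨a, b⟩` is not quadratic on `N`.
* `rank_one`: if every point stabiliser of `X` has a 2-subgroup transitive on the remaining points, then a
  subgroup `A` of exponent 2 modulo the kernel, quadratic on `N` and semiregular off one point, induces a group of order at most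
  2 on `Δ`.
-/

set_option autoImplicit false

namespace Cfsg.Agent.Omega.Tools.UnitLemma

open Subgroup

variable {P N : Type*} [Group P] [CommGroup N]

/-- the operator `x ↦ ∏ g x` -/
def op (φ : P →* MulAut N) (l : List P) (x : N) : N := (l.map fun g => φ g x).prod

@[simp] theorem op_nil (φ : P →* MulAut N) (x : N) : op φ [] x = 1 := rfl

@[simp] theorem op_cons (φ : P →* MulAut N) (g : P) (l : List P) (x : N) :
    op φ (g :: l) x = φ g x * op φ l x := by
  rw [op, List.map_cons, List.prod_cons]; rfl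

theorem op_mul (φ : P →* MulAut N) (l : List P) (x y : N) : op φ l (x * y) = op φ l x * op φ l y := by
  induction l with
  | nil => simp
  | cons g l ih => rw [op_cons, op_cons, op_cons, ih, map_mul]; exact mul_mul_mul_comm _ _ _ _

theorem op_fix (φ : P →* MulAut N) (l : List P) {x : N} (h : ∀ g ∈ l, φ g x = x) : op φ l x = x ^ l.length := by
  induction l with
  | nil => simp
  | cons g l ih =>
    rw [op_cons, ih (fun g hg => h g (List.mem_cons_of_mem _ hg)), h g List.mem_cons_self, List.length_cons,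
      pow_succ']

/-- `op x ≡ x ^ length` modulo a subgroup containing the commutators -/
theorem op_mem (φ : P →* MulAut N) (l : List P) (U : Subgroup N) {x : N} (h : ∀ g, φ g x * x⁻¹ ∈ U) :
    op φ l x * (x ^ l.length)⁻¹ ∈ U := by
  induction l with
  | nil => simp
  | cons g l ih =>
    have e : op φ (g :: l) x * (x ^ (g :: l).length)⁻¹ =
        (φ g x * x⁻¹) * (op φ l x * (x ^ l.length)⁻¹) := by
      rw [op_cons, List.length_cons, pow_succ, mul_inv]
      exact (congrArg _ (mul_comm _ _)).trans (mul_mul_mul_comm _ _ _ _)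
    rw [e]
    exact U.mul_mem (h g) ih

theorem isPGroup_semidirect {p : ℕ} [Fact p.Prime] [Finite P] [Finite N] (hP : IsPGroup p P) (hN : IsPGroup p N)
    (φ : P →* MulAut N) : IsPGroup p (N ⋊[φ] P) := by
  obtain ⟨m, hm⟩ := IsPGroup.iff_card.1 hP
  obtain ⟨n, hn⟩ := IsPGroup.iff_card.1 hN
  apply IsPGroup.of_card (n := n + m)
  rw [SemidirectProduct.card, hm, hn, pow_add]

/-- the operator of a list of length prime to `p` is injective -/
theorem eq_one_of_op {p : ℕ} [Fact p.Prime] [Finite P] [Finite N] (hP : IsPGroup p P) (hN : IsPGroup p N)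
    (φ : P →* MulAut N) {l : List P} (hl : ¬ p ∣ l.length) {x : N} (hx : op φ l x = 1) : x = 1 := by
  have hfin : Finite (N ⋊[φ] P) := Finite.of_equiv _ SemidirectProduct.equivProd.symm
  have hnil : Group.IsNilpotent (N ⋊[φ] P) := (isPGroup_semidirect hP hN φ).isNilpotent
  obtain ⟨n, hn⟩ := hnil.nilpotent
  have key : ∀ i : ℕ, ∀ x : N, (SemidirectProduct.inl x : N ⋊[φ] P) ∈ Subgroup.upperCentralSeries (N ⋊[φ] P) i →
      op φ l x = 1 → x = 1 := by
    intro i
    induction i with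
    | zero =>
      intro x hx _
      rw [Subgroup.upperCentralSeries_zero, mem_bot] at hx
      exact SemidirectProduct.inl_injective (hx.trans (map_one _).symm)
    | succ i ih =>
      intro x hx hop
      apply ih x ?_ hop
      set U : Subgroup N := (Subgroup.upperCentralSeries (N ⋊[φ] P) i).comap SemidirectProduct.inl with hU
      have hU' : ∀ g, φ g x * x⁻¹ ∈ U := by
        intro g
        rw [← U.inv_mem_iff, mul_inv_rev, inv_inv, hU, mem_comap, map_mul, ← map_inv (φ g),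
          SemidirectProduct.inl_aut, map_inv]
        have h := (Subgroup.mem_upperCentralSeries_succ_iff).1 hx (SemidirectProduct.inr g)
        simpa only [commutatorElement_def, mul_assoc, map_inv] using h
      have h1 := op_mem φ l U hU'
      rw [hop, one_mul, U.inv_mem_iff] at h1
      obtain ⟨k, hk⟩ := IsPGroup.iff_orderOf.1 hN x
      have hcop : (orderOf x).Coprime l.length := by
        rw [hk]
        exact Nat.Coprime.pow_left _ ((Nat.Prime.coprime_iff_not_dvd Fact.out).2 hl)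
      obtain ⟨m, hm⟩ := exists_pow_eq_self_of_coprime hcop.symm
      have h2 : x ∈ U := by
        rw [← hm]; exact U.pow_mem h1 m
      exact h2
  exact key n x (by rw [hn]; exact mem_top _) hx

/-- **the unit lemma** -/
theorem unit_lemma [Finite P] [Finite N] (hP : IsPGroup 2 P) (h2 : ∀ x : N, x * x = 1) (φ : P →* MulAut N)
    {l : List P} (hl : Odd l.length) {e e₀ : N} (hfix : ∀ g ∈ l, φ g e = e) (hsum : op φ l e₀ = e) : e₀ = e := by
  have : Fact (Nat.Prime 2) := ⟨Nat.prime_two⟩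
  have hN : IsPGroup 2 N := fun x => ⟨1, by rw [pow_one, pow_two, h2]⟩
  have hinv : ∀ x : N, x⁻¹ = x := fun x => inv_eq_of_mul_eq_one_right (h2 x)
  have h1 : op φ l (e₀ * e) = 1 := by
    rw [op_mul, hsum, op_fix φ l hfix]
    obtain ⟨k, hk⟩ := hl
    rw [hk, pow_succ, pow_mul, pow_two, h2, one_pow, one_mul, h2]
  have h3 := eq_one_of_op hP hN φ (fun h => by
    obtain ⟨k, hk⟩ := hl
    omega) h1
  rw [mul_eq_one_iff_eq_inv.1 h3, hinv]

/-- the list form with three elements -/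
theorem unit_three [Finite P] [Finite N] (hP : IsPGroup 2 P) (h2 : ∀ x : N, x * x = 1) (φ : P →* MulAut N)
    {g₁ g₂ g₃ : P} {e e₀ : N} (hfix : ∀ g : P, φ g e = e) (hsum : φ g₁ e₀ * φ g₂ e₀ * φ g₃ e₀ = e) : e₀ = e := by
  refine unit_lemma hP h2 φ (l := [g₁, g₂, g₃]) ⟨1, rfl⟩ (fun g _ => hfix g) ?_
  rw [op_cons, op_cons, op_cons, op_nil, mul_one, ← mul_assoc, hsum]

section Delta

variable {X Δ : Type*} [Group X] [Finite X] [MulAction X Δ] [Finite N]

/-- four points of `Δ` -/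
theorem prod_ne_one (h2 : ∀ x : N, x * x = 1) (φ : X →* MulAut N) {e : Δ → N}
    (he : ∀ (x : X) (d : Δ), e (x • d) = φ x (e d)) (hinj : Function.Injective e) {ν μ₁ μ₂ μ₃ : Δ} (hμ : μ₁ ≠ ν)
    {Q : Subgroup X} (hQ : IsPGroup 2 Q) (hQν : ∀ g ∈ Q, g • ν = ν) (h12 : ∃ g ∈ Q, g • μ₁ = μ₂)
    (h13 : ∃ g ∈ Q, g • μ₁ = μ₃) : e ν * e μ₁ * e μ₂ * e μ₃ ≠ 1 := by
  intro h
  obtain ⟨g₂, hg2, rfl⟩ := h12
  obtain ⟨g₃, hg3, rfl⟩ := h13
  have hinv : ∀ x : N, x⁻¹ = x := fun x => inv_eq_of_mul_eq_one_right (h2 x)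
  apply hμ
  apply hinj
  refine unit_three hQ h2 (φ.comp Q.subtype) (g₁ := 1) (g₂ := ⟨g₂, hg2⟩) (g₃ := ⟨g₃, hg3⟩) ?_ ?_
  · intro g
    change φ (g : X) (e ν) = e ν
    rw [← he, hQν g g.2]
  · change φ (1 : X) (e μ₁) * φ g₂ (e μ₁) * φ g₃ (e μ₁) = e ν
    rw [← he, ← he, ← he, one_smul, ← hinv (e ν), eq_inv_iff_mul_eq_one, mul_comm, ← mul_assoc, ← mul_assoc]
    exact h

/-- `⟨a, b⟩` does not act quadratically -/
theorem not_quadratic (h2 : ∀ x : N, x * x = 1) (φ : X →* MulAut N) {e : Δ → N}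
    (he : ∀ (x : X) (d : Δ), e (x • d) = φ x (e d)) (hinj : Function.Injective e) {a b : X} {ν : Δ}
    (ha : a • ν ≠ ν) {Q : Subgroup X} (hQ : IsPGroup 2 Q) (hQν : ∀ g ∈ Q, g • ν = ν)
    (h12 : ∃ g ∈ Q, g • a • ν = b • ν) (h13 : ∃ g ∈ Q, g • a • ν = b • a • ν)
    (hq : ∀ x : N, φ b (x⁻¹ * φ a x) = x⁻¹ * φ a x) : False := by
  have hinv : ∀ x : N, x⁻¹ = x := fun x => inv_eq_of_mul_eq_one_right (h2 x)
  apply prod_ne_one h2 φ he hinj ha hQ hQν h12 h13
  have h := hq (e ν)
  rw [hinv, ← he, map_mul, ← he, ← he] at h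
  have h' : e ν * e (a • ν) * e (b • ν) * e (b • a • ν) =
      (e (b • ν) * e (b • a • ν)) * (e ν * e (a • ν)) := by
    rw [mul_assoc (e ν * e (a • ν)), mul_comm]
  rw [h', h, h2]

/-- **rank one**: quadratic groups, semiregular off one point, have order at most 2 modulo the kernel -/
theorem rank_one (h2 : ∀ x : N, x * x = 1) (φ : X →* MulAut N) {e : Δ → N}
    (he : ∀ (x : X) (d : Δ), e (x • d) = φ x (e d)) (hinj : Function.Injective e)
    {ν : Δ} {Q : Subgroup X} (hQ : IsPGroup 2 Q) (hQν : ∀ g ∈ Q, g • ν = ν)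
    (htr : ∀ d d' : Δ, d ≠ ν → d' ≠ ν → ∃ g ∈ Q, g • d = d') {A : Subgroup X}
    (hsemi : ∀ a ∈ A, a • ν = ν → ∀ d : Δ, a • d = d) (hsq : ∀ a ∈ A, ∀ d : Δ, a • a • d = d)
    (hq : ∀ a ∈ A, ∀ b ∈ A, ∀ x : N, φ b (x⁻¹ * φ a x) = x⁻¹ * φ a x) {a b : X} (ha : a ∈ A) (hb : b ∈ A) :
    (∀ d : Δ, a • d = d) ∨ (∀ d : Δ, b • d = d) ∨ ∀ d : Δ, a • d = b • d := by
  by_contra hcon
  push Not at hcon
  obtain ⟨⟨d1, h1⟩, ⟨d2, h2'⟩, ⟨d3, h3⟩⟩ := hcon
  have ha' : a • ν ≠ ν := fun h => h1 (hsemi a ha h d1)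
  have hb' : b • ν ≠ ν := fun h => h2' (hsemi b hb h d2)
  have hab : b • a • ν ≠ ν := by
    intro h
    apply h3
    have h4 := hsemi (b * a) (A.mul_mem hb ha) (by rw [mul_smul, h]) d3
    rw [mul_smul] at h4
    have h5 : b • b • a • d3 = b • d3 := by rw [h4]
    rw [hsq b hb] at h5
    exact h5
  exact not_quadratic h2 φ he hinj ha' hQ hQν (htr _ _ ha' hb') (htr _ _ ha' hab) (hq a ha b hb)

end Delta

end Cfsg.Agent.Omega.Tools.UnitLemma
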